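import Mathlib.RingTheory.Nakayama
import Mathlib.RingTheory.Finiteness.Ideal
import Mathlib.RingTheory.Noetherian.Basic
import Mathlib.RingTheory.IsTensorProduct
import Mathlib.Algebra.Category.Ring.Constructions
import Mathlib.RingTheory.Ideal.Quotient.Basic
import Mathlib.LinearAlgebra.Quotient.Basic

/-!
# Base change with semilinear maps, and powers of ideals killing torsion
-/

set_option autoImplicit false

universe u

noncomputable section

namespace FKillLib

/-- A semilinear map exhibiting the target as the base change of the source. -/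
structure SemiBC {R S M N : Type u} [CommRing R] [CommRing S] [AddCommGroup M] [Module R M] [AddCommGroup N]
    [Module S N] (α : R →+* S) (ψ : M →+ N) : Prop where
  smul : ∀ r x, ψ (r • x) = α r • ψ x
  span : ∀ n, n ∈ Submodule.span S (Set.range ψ)
  lift : ∀ (Q : Type u) [AddCommGroup Q] [Module S Q] (g : M →+ Q), (∀ r x, g (r • x) = α r • g x) →
    ∃ G : N →ₗ[S] Q, ∀ x, G (ψ x) = g x

/-- From a base change in the sense of tensor products. -/
theorem semiBC_of_isBaseChange {R S M N : Type u} [CommRing R] [CommRing S] [Algebra R S] [AddCommGroup M]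
    [Module R M] [AddCommGroup N] [Module R N] [Module S N] [IsScalarTower R S N] (ψ : M →ₗ[R] N)
    (hψ : IsBaseChange S ψ) : SemiBC (algebraMap R S) ψ.toAddMonoidHom := by
  refine ⟨fun r x => ?_, fun n => ?_, fun Q _ _ g hg => ?_⟩
  · exact (map_smul ψ r x).trans (algebraMap_smul S r (ψ x)).symm
  · exact hψ.inductionOn n (fun n => n ∈ Submodule.span S (Set.range ψ.toAddMonoidHom)) (zero_mem _)
      (fun m => Submodule.subset_span ⟨m, rfl⟩) (fun s m hm => Submodule.smul_mem _ s hm)
      fun a b ha hb => add_mem ha hb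
  · letI : Module R Q := Module.compHom Q (algebraMap R S)
    haveI : IsScalarTower R S Q := IsScalarTower.of_algebraMap_smul fun _ _ => rfl
    let g' : M →ₗ[R] Q := { toFun := g, map_add' := map_add g, map_smul' := hg }
    exact ⟨hψ.lift g', fun x => hψ.lift_eq g' x⟩

/-- Semilinear maps out of a base change agree when they agree on the source. -/
theorem SemiBC.ext {R S M N T Q : Type u} [CommRing R] [CommRing S] [AddCommGroup M] [Module R M] [AddCommGroup N]
    [Module S N] [CommRing T] [AddCommGroup Q] [Module T Q] {α : R →+* S} {ψ : M →+ N} (h : SemiBC α ψ)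
    (σ : S →+* T) (G G' : N →+ Q) (hG : ∀ s n, G (s • n) = σ s • G n) (hG' : ∀ s n, G' (s • n) = σ s • G' n)
    (he : ∀ x, G (ψ x) = G' (ψ x)) : G = G' := by
  refine AddMonoidHom.ext fun n => ?_
  induction h.span n using Submodule.span_induction with
  | mem y hy => obtain ⟨x, rfl⟩ := hy; exact he x
  | zero => rw [map_zero, map_zero]
  | add a b _ _ ha hb => rw [map_add, map_add, ha, hb]
  | smul s a _ ha => rw [hG, hG', ha]

/-- The map between two base changes, with its kernel. -/
theorem exists_desc {R Rk S T M Mk N L : Type u} [CommRing R] [CommRing Rk] [CommRing S] [CommRing T]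
    [AddCommGroup M] [Module R M] [AddCommGroup Mk] [Module Rk Mk] [AddCommGroup N] [Module S N] [AddCommGroup L]
    [Module T L] {α : R →+* S} {o : R →+* Rk} {β : Rk →+* T} {σ : S →+* T} (hσ : Function.Surjective σ)
    (hco : ∀ r, σ (α r) = β (o r)) {p : M →+ Mk} (hp : ∀ r x, p (r • x) = o r • p x)
    (hps : Function.Surjective p) (hpk : ∀ x, p x = 0 → x ∈ (RingHom.ker o • ⊤ : Submodule R M))
    (ho : Function.Surjective o)
    {ψ : M →+ N} (hψ : SemiBC α ψ) {q : Mk →+ L} (hq : SemiBC β q) :
    ∃ Ψ : N →+ L, (∀ s n, Ψ (s • n) = σ s • Ψ n) ∧ (∀ x, Ψ (ψ x) = q (p x)) ∧ Function.Surjective Ψ ∧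
      ∀ n, Ψ n = 0 ↔ n ∈ (RingHom.ker σ • ⊤ : Submodule S N) := by
  classical
  letI : Module S L := Module.compHom L σ
  obtain ⟨G, hG⟩ := hψ.lift L (q.comp p) fun r x =>
    ((congrArg q (hp r x)).trans (hq.smul _ _)).trans (congrArg (fun t => t • q (p x)) (hco r).symm)
  let K : Submodule S N := RingHom.ker σ • ⊤
  have hkill : ∀ s ∈ RingHom.ker σ, ∀ z : N ⧸ K, s • z = 0 := fun s hs z => by
    obtain ⟨z, rfl⟩ := Submodule.Quotient.mk_surjective _ z
    exact (Submodule.Quotient.mk_smul K s z).symm.trans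
      ((Submodule.Quotient.mk_eq_zero K).2 (Submodule.smul_mem_smul hs trivial))
  -- the quotient as a module over the target ring
  let sinv : T → S := fun t => (hσ t).choose
  have hsinv : ∀ t, σ (sinv t) = t := fun t => (hσ t).choose_spec
  have hind : ∀ s s', σ s = σ s' → ∀ z : N ⧸ K, s • z = s' • z := fun s s' e z =>
    sub_eq_zero.1 ((sub_smul s s' z).symm.trans (hkill _ (by rw [RingHom.mem_ker, map_sub, e, sub_self]) z))
  letI : SMul T (N ⧸ K) := ⟨fun t z => sinv t • z⟩
  have hsm : ∀ (t : T) (z : N ⧸ K) s, σ s = t → t • z = s • z := fun t z s e =>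
    hind _ _ ((hsinv t).trans e.symm) z
  letI : Module T (N ⧸ K) :=
    { one_smul := fun z => (hsm 1 z 1 (map_one σ)).trans (one_smul S z)
      mul_smul := fun a b z => (hsm (a * b) z (sinv a * sinv b) (by rw [map_mul, hsinv, hsinv])).trans (mul_smul _ _ _)
      smul_zero := fun a => smul_zero (sinv a)
      smul_add := fun a z z' => smul_add (sinv a) z z'
      add_smul := fun a b z => (hsm (a + b) z (sinv a + sinv b) (by rw [map_add, hsinv, hsinv])).trans (add_smul _ _ _)
      zero_smul := fun z => (hsm 0 z 0 (map_zero σ)).trans (zero_smul S z) }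
  -- the inverse on the quotient
  let m : M →+ N ⧸ K := K.mkQ.toAddMonoidHom.comp ψ
  have hm : ∀ x, p x = 0 → m x = 0 := fun x hx => by
    refine Submodule.smul_induction_on (p := fun z => m z = 0) (hpk x hx) (fun r hr z _ => ?_)
      (fun a b ha hb => by rw [map_add, ha, hb, add_zero])
    refine (congrArg K.mkQ (hψ.smul r z)).trans ((map_smul K.mkQ _ _).trans (hkill _ ?_ _))
    rw [RingHom.mem_ker, hco, RingHom.mem_ker.1 hr, map_zero]
  let m' : Mk →+ N ⧸ K :=
    { toFun := fun y => m (hps y).choose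
      map_zero' := hm _ (hps 0).choose_spec
      map_add' := fun y y' => by
        refine sub_eq_zero.1 ?_
        rw [← map_add, ← map_sub]
        exact hm _ (by rw [map_sub, map_add, (hps _).choose_spec, (hps y).choose_spec, (hps y').choose_spec, sub_self]) }
  have hm' : ∀ x, m' (p x) = m x := fun x => by
    refine sub_eq_zero.1 ?_
    show m _ - m x = 0
    rw [← map_sub]
    exact hm _ (by rw [map_sub, (hps _).choose_spec, sub_self])
  obtain ⟨H, hH⟩ := hq.lift (N ⧸ K) m' fun a y => by
    obtain ⟨r, rfl⟩ := ho a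
    obtain ⟨x, rfl⟩ := hps y
    rw [← hp, hm', hm']
    exact ((congrArg K.mkQ (hψ.smul r x)).trans (map_smul K.mkQ _ _)).trans (hsm _ _ _ (hco r)).symm
  have hGk : ∀ n, G n = 0 → n ∈ K := fun n hn => by
    have e : H.toAddMonoidHom.comp G.toAddMonoidHom = K.mkQ.toAddMonoidHom := by
      refine hψ.ext (RingHom.id S) _ _ (fun s z => ?_) (fun s z => map_smul K.mkQ s z)
        fun x => (congrArg H (hG x)).trans ((hH (p x)).trans (hm' x))
      exact ((congrArg H (map_smul G s z)).trans (map_smul H (σ s) (G z))).trans (hsm _ _ s rfl)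
    have h1 := (DFunLike.congr_fun e n).symm.trans ((congrArg H hn).trans (map_zero H))
    exact (Submodule.Quotient.mk_eq_zero K).1 h1
  refine ⟨G.toAddMonoidHom, fun s n => map_smul G s n, hG, fun y => ?_, fun n => ⟨hGk n, fun hn => ?_⟩⟩
  · induction hq.span y using Submodule.span_induction with
    | mem z hz =>
      obtain ⟨z, rfl⟩ := hz
      obtain ⟨x, rfl⟩ := hps z
      exact ⟨ψ x, hG x⟩
    | zero => exact ⟨0, map_zero G⟩
    | add a b _ _ ha hb =>
      obtain ⟨a', rfl⟩ := ha
      obtain ⟨b', rfl⟩ := hb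
      exact ⟨a' + b', map_add G a' b'⟩
    | smul t a _ ha =>
      obtain ⟨a', rfl⟩ := ha
      obtain ⟨s, rfl⟩ := hσ t
      exact ⟨s • a', map_smul G s a'⟩
  · refine Submodule.smul_induction_on (p := fun z => G z = 0) hn (fun s hs z _ => ?_)
      (fun a b ha hb => by rw [map_add, ha, hb, add_zero])
    show G (s • z) = 0
    refine (map_smul G s z).trans ((congrArg (fun t : T => t • G z) (RingHom.mem_ker.1 hs)).trans ?_)
    exact zero_smul T (G z)

/-- An ideal approximated by an extended ideal equals it. -/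
theorem map_eq_of_le_sup_sq {A R : Type u} [CommRing A] [CommRing R] [IsNoetherianRing R] (c : A →+* R) (I : Ideal A)
    (I' : Ideal R) (hj : I' ≤ Ideal.jacobson ⊥) (h1 : I.map c ≤ I') (h2 : I' ≤ I.map c ⊔ I' ^ 2) : I.map c = I' := by
  refine le_antisymm h1 ?_
  refine Submodule.le_of_le_smul_of_le_jacobson_bot (IsNoetherian.noetherian I') hj ?_
  rw [smul_eq_mul, ← pow_two]
  exact h2

/-- A power of an ideal kills a finite module each of whose elements it kills power by power. -/
theorem exists_pow_kill {A R L : Type u} [CommRing A] [CommRing R] [IsNoetherianRing A] [AddCommGroup L] [Module R L]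
    [IsNoetherian R L] (c : A →+* R) (J : Ideal A) (S : Submodule R L)
    (h : ∀ a ∈ J, ∀ z ∈ S, ∃ e : ℕ, c a ^ e • z = 0) :
    ∃ n : ℕ, ∀ s ∈ J ^ n, ∀ z ∈ S, c s • z = 0 := by
  classical
  let T : Ideal A :=
    { carrier := {s | ∀ z ∈ S, c s • z = 0}
      zero_mem' := fun z _ => by rw [map_zero, zero_smul]
      add_mem' := fun {a b} ha hb z hz => by rw [map_add, add_smul, ha z hz, hb z hz, add_zero]
      smul_mem' := fun a b hb z hz => by rw [smul_eq_mul, map_mul, mul_smul, hb z hz, smul_zero] }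
  obtain ⟨G, hG⟩ := IsNoetherian.noetherian S
  have hGS : ∀ z ∈ G, z ∈ S := fun z hz => hG ▸ Submodule.subset_span hz
  have hJ : J ≤ T.radical := fun a ha => by
    choose e he using fun z : G => h a ha z.1 (hGS z.1 z.2)
    refine ⟨Finset.univ.sup e, fun z hz => ?_⟩
    rw [← hG] at hz
    induction hz using Submodule.span_induction with
    | mem y hy =>
      obtain ⟨d, hd⟩ := Nat.le.dest (Finset.le_sup (f := e) (Finset.mem_univ ⟨y, hy⟩))
      rw [map_pow, ← hd, pow_add, mul_comm, mul_smul, he ⟨y, hy⟩, smul_zero]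
    | zero => rw [smul_zero]
    | add p q _ _ hp hq => rw [smul_add, hp, hq, add_zero]
    | smul r p _ hp => rw [smul_comm, hp, smul_zero]
  obtain ⟨n, hn⟩ := Ideal.exists_pow_le_of_le_radical_of_fg hJ (IsNoetherian.noetherian J)
  exact ⟨n, fun s hs => hn hs⟩

open CategoryTheory in
/-- The map from a pushout onto a quotient of one factor. -/
theorem exists_pushout_desc {A B R P T : CommRingCat.{u}} {a : A ⟶ B} {c : A ⟶ R} {b' : B ⟶ P} {r' : R ⟶ P}
    (hP : IsPushout a c b' r') (σB : B ⟶ T) (σR : R ⟶ T) (hw : a ≫ σB = c ≫ σR) (hσB : Function.Surjective σB)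
    (J : Ideal A) (hJ : RingHom.ker σB.hom ≤ J.map a.hom) (hJ' : ∀ x ∈ J, σB (a x) = 0)
    (hR : ∀ r : R, ∃ x : A, r - c x ∈ J.map c.hom) :
    ∃ σ : P ⟶ T, b' ≫ σ = σB ∧ r' ≫ σ = σR ∧ Function.Surjective σ ∧
      RingHom.ker σ.hom = J.map (a ≫ b').hom := by
  let σ := hP.desc σB σR hw
  have h1 : b' ≫ σ = σB := hP.inl_desc _ _ _
  have h2 : r' ≫ σ = σR := hP.inr_desc _ _ _
  have hle : J.map (a ≫ b').hom ≤ RingHom.ker σ.hom := by
    rw [Ideal.map_le_iff_le_comap]
    intro x hx
    show σ (b' (a x)) = 0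
    exact (congr($h1 (a x))).trans (hJ' x hx)
  refine ⟨σ, h1, h2, fun t => ?_, le_antisymm (fun z hz => ?_) hle⟩
  · obtain ⟨y, hy⟩ := hσB t
    exact ⟨b' y, (congr($h1 y)).trans hy⟩
  let K : Ideal P := J.map (a ≫ b').hom
  let mk : P →+* P ⧸ K := Ideal.Quotient.mk K
  have hBK : RingHom.ker σB.hom ≤ RingHom.ker (mk.comp b'.hom) := by
    refine hJ.trans (Ideal.map_le_iff_le_comap.2 fun x hx => ?_)
    exact Ideal.Quotient.eq_zero_iff_mem.2 (Ideal.mem_map_of_mem _ hx)
  let τ : T →+* P ⧸ K := RingHom.liftOfSurjective σB.hom hσB ⟨mk.comp b'.hom, hBK⟩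
  have hτ : ∀ y, τ (σB y) = mk (b' y) := fun y =>
    RingHom.liftOfRightInverse_comp_apply σB.hom _ _ ⟨mk.comp b'.hom, hBK⟩ y
  have e : σ ≫ CommRingCat.ofHom τ = CommRingCat.ofHom mk := by
    refine hP.hom_ext (CommRingCat.hom_ext (RingHom.ext fun y => ?_)) (CommRingCat.hom_ext (RingHom.ext fun r => ?_))
    · exact (congrArg τ (congr($h1 y))).trans (hτ y)
    obtain ⟨x, hx⟩ := hR r
    have hx1 : ∀ i ∈ J.map c.hom, τ (σR i) = 0 ∧ mk (r' i) = 0 := by
      intro i hi
      have hs : J.map c.hom ≤ RingHom.ker (τ.comp σR.hom) ⊓ RingHom.ker (mk.comp r'.hom) := by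
        refine Ideal.map_le_iff_le_comap.2 fun x hx => ⟨?_, ?_⟩
        · show τ (σR (c x)) = 0
          refine (congrArg τ (congr($hw x)).symm).trans ?_
          exact (congrArg τ (hJ' x hx)).trans (map_zero τ)
        · show mk (r' (c x)) = 0
          refine (congrArg mk (congr($(hP.w) x)).symm).trans ?_
          exact Ideal.Quotient.eq_zero_iff_mem.2 (Ideal.mem_map_of_mem _ hx)
      exact ⟨(hs hi).1, (hs hi).2⟩
    show τ (σ (r' r)) = mk (r' r)
    refine (congrArg τ (congr($h2 r))).trans ?_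
    have hr : r = c x + (r - c x) := (add_sub_cancel _ _).symm
    rw [hr, map_add, map_add, map_add, map_add, (hx1 _ hx).1, (hx1 _ hx).2, add_zero, add_zero]
    refine (congrArg τ (congr($hw x)).symm).trans ((hτ (a x)).trans ?_)
    exact congrArg mk (congr($(hP.w) x))
  refine Ideal.Quotient.eq_zero_iff_mem.1 ?_
  exact (congr($e z)).symm.trans ((congrArg τ hz).trans (map_zero τ))

end FKillLib

end
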