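import Groth.Agent.FKillLib.Alg
import Groth.Agent.KFlatLib.AffinePull
import Groth.Agent.AlgzCohLib.Complete

/-!
# Inverse images of modules on affine opens as base changes
-/

set_option autoImplicit false
set_option linter.style.haveILetI false

universe u

open CategoryTheory CategoryTheory.Limits AlgebraicGeometry TopologicalSpace Opposite

noncomputable section

namespace FKillLib

theorem semiBC_puSec {X Y : Scheme.{u}} (g : X ⟶ Y) (M : Y.Modules) [Coh.IsQCoh M] {U : Y.Opens} (hU : IsAffineOpen U)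
    {U' : X.Opens} (hU' : IsAffineOpen U') (h : U' ≤ g ⁻¹ᵁ U) :
    SemiBC (g.appLE U U' h).hom (KFlatLib.puSecLE g M h) := by
  let alg : Algebra Γ(Y, U) Γ(X, U') := (g.appLE U U' h).hom.toAlgebra
  let P := (Scheme.Modules.pullback g).obj M
  let mo : Module Γ(Y, U) Γ(P, U') := Module.compHom _ (g.appLE U U' h).hom
  have st : @IsScalarTower Γ(Y, U) Γ(X, U') Γ(P, U') alg.toSMul _ mo.toSMul :=
    @IsScalarTower.of_algebraMap_smul _ _ _ _ _ alg _ _ fun _ _ => rfl
  let ψ : Γ(M, U) →ₗ[Γ(Y, U)] Γ(P, U') :=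
    { toFun := KFlatLib.puSecLE g M h
      map_add' := map_add _
      map_smul' := fun r m => KFlatLib.puSecLE_smul g M h r m }
  exact semiBC_of_isBaseChange ψ (KFlatLib.isBaseChange_puSec g M hU hU' h (fun _ => rfl) ψ fun _ => rfl)

/-- Base changes do not see isomorphisms of the source. -/
theorem SemiBC.comp_equiv {R' R S M' M N : Type u} [CommRing R'] [CommRing R] [CommRing S] [AddCommGroup M']
    [Module R' M'] [AddCommGroup M] [Module R M] [AddCommGroup N] [Module S N] {α : R →+* S} {ψ : M →+ N}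
    (h : SemiBC α ψ) (e : R' →+* R) (he : Function.Surjective e) (ι : M' →+ M) (hι : Function.Bijective ι)
    (hs : ∀ r x, ι (r • x) = e r • ι x) : SemiBC (α.comp e) (ψ.comp ι) := by
  refine ⟨fun r x => (congrArg ψ (hs r x)).trans (h.smul _ _), fun n => ?_, fun Q _ _ g hg => ?_⟩
  · have hr : Set.range (ψ.comp ι) = Set.range ψ := by
      rw [AddMonoidHom.coe_comp, Set.range_comp, hι.2.range_eq, Set.image_univ]
    rw [hr]
    exact h.span n
  · let ι' := AddEquiv.ofBijective ι hι
    obtain ⟨G, hG⟩ := h.lift Q (g.comp ι'.symm.toAddMonoidHom) fun r x => by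
      obtain ⟨r', rfl⟩ := he r
      obtain ⟨x', rfl⟩ := hι.2 x
      show g (ι'.symm (e r' • ι x')) = α (e r') • g (ι'.symm (ι x'))
      rw [← hs, show ι'.symm (ι (r' • x')) = r' • x' from ι'.symm_apply_apply _,
        show ι'.symm (ι x') = x' from ι'.symm_apply_apply _]
      exact hg r' x'
    exact ⟨G, fun x => (hG (ι x)).trans (congrArg g (ι'.symm_apply_apply x))⟩

/-- The sections over the whole spectrum of the module of a module. -/
def topSec {R : CommRingCat.{u}} (M : ModuleCat.{u} R) : M →+ Γ(tilde M, ⊤) :=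
  (tilde.toOpen M ⊤).hom.toAddMonoidHom

theorem topSec_bijective {R : CommRingCat.{u}} (M : ModuleCat.{u} R) : Function.Bijective (topSec M) :=
  ConcreteCategory.bijective_of_isIso (tilde.toOpen M ⊤)

theorem topSec_smul {R : CommRingCat.{u}} (M : ModuleCat.{u} R) (r : R) (x : M) :
    topSec M (r • x) = (Scheme.ΓSpecIso R).inv r • topSec M x := by
  refine (map_smul (tilde.toOpen M ⊤).hom r x).trans ?_
  refine (Scheme.Modules.smul_Spec_def r (topSec M x)).trans ?_
  exact congrArg (fun c : Γ(Spec R, ⊤) => c • topSec M x)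
    ((congr($(congrArg (Spec R).presheaf.map (Subsingleton.elim (TopologicalSpace.Opens.leTop (⊤ : (Spec R).Opens)).op (𝟙 _))) _)).trans
      (congr($((Spec R).presheaf.map_id _) _)))

end FKillLib

end
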