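import Groth.Agent.FKillLib.Base
import Groth.Agent.QCohLib.Affine
import Groth.Agent.QCohLib.Push

/-!
# Kernel and cokernel of the unit away from the locus where the morphism is an isomorphism
-/

set_option autoImplicit false
set_option linter.style.haveILetI false

universe u

open CategoryTheory CategoryTheory.Limits AlgebraicGeometry TopologicalSpace Opposite

noncomputable section

namespace FKillLib

theorem isIso_morphismRestrict_baseChange {X Z S : Scheme.{u}} (f : Z ⟶ X) (j : S ⟶ X) (U : X.Opens)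
    [hU : IsIso (f ∣_ U)] (D : S.Opens) (hD : D ≤ j ⁻¹ᵁ U) : IsIso (pullback.snd f j ∣_ D) := by
  have h1 := isPullback_morphismRestrict (pullback.snd f j) D
  have h2 := (IsPullback.of_hasPullback f j).flip
  have h3 := h1.paste_vert h2
  have h4 := isPullback_morphismRestrict f U
  have hr : Set.range (D.ι ≫ j) ⊆ Set.range U.ι := by
    rw [U.range_ι]
    rintro _ ⟨z, rfl⟩
    exact hD z.2
  let k : (D : Scheme.{u}) ⟶ U := IsOpenImmersion.lift U.ι (D.ι ≫ j) hr
  have hk : k ≫ U.ι = D.ι ≫ j := IsOpenImmersion.lift_fac _ _ _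
  have hw : (pullback.snd f j ∣_ D ≫ k) ≫ U.ι = ((pullback.snd f j ⁻¹ᵁ D).ι ≫ pullback.fst f j) ≫ f := by
    rw [Category.assoc, hk]
    exact h3.w
  let m := h4.lift _ _ hw
  have h5 : IsPullback (pullback.snd f j ∣_ D) m k (f ∣_ U) := by
    refine IsPullback.of_bot ?_ (h4.lift_fst _ _ hw).symm h4
    rw [show m ≫ (f ⁻¹ᵁ U).ι = _ from h4.lift_snd _ _ hw, hk]
    exact h3
  exact MorphismProperty.of_isPullback (P := MorphismProperty.isomorphisms Scheme.{u}) h5.flip hU

/-- The inverse image of a quasi-coherent module has the same sections over an affine open over which the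
morphism is an isomorphism. -/
theorem puSec_bijective_of_isIso {X Y : Scheme.{u}} (g : X ⟶ Y) (P : Y.Modules) [Coh.IsQCoh P] {D : Y.Opens}
    (hD : IsAffineOpen D) [IsIso (g ∣_ D)] : Function.Bijective (KFlatLib.puSecLE g P (le_refl (g ⁻¹ᵁ D))) := by
  haveI : IsAffine D.toScheme := hD
  have hD' : IsAffineOpen (g ⁻¹ᵁ D) := IsAffine.of_isIso (g ∣_ D)
  have h := semiBC_puSec g P hD hD' le_rfl
  have hb : Function.Bijective (g.appLE D (g ⁻¹ᵁ D) le_rfl) := by
    rw [← Scheme.Hom.app_eq_appLE]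
    have e : (g ∣_ D).app ⊤ = g.app (D.ι ''ᵁ ⊤) ≫ X.presheaf.map (eqToHom (image_morphismRestrict_preimage g D ⊤)).op :=
      morphismRestrict_app g D ⊤
    have h3 : IsIso (g.app (D.ι ''ᵁ ⊤) ≫ X.presheaf.map (eqToHom (image_morphismRestrict_preimage g D ⊤)).op) :=
      e ▸ (inferInstance : IsIso ((g ∣_ D).app ⊤))
    haveI h2 : IsIso (g.app (D.ι ''ᵁ ⊤)) :=
      @IsIso.of_isIso_comp_right _ _ _ _ _ _ (X.presheaf.map (eqToHom (image_morphismRestrict_preimage g D ⊤)).op) inferInstance h3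
    rw [D.ι_image_top] at h2
    exact ConcreteCategory.bijective_of_isIso (g.app D)
  let α := RingEquiv.ofBijective (g.appLE D (g ⁻¹ᵁ D) le_rfl).hom hb
  letI : Module Γ(X, g ⁻¹ᵁ D) Γ(P, D) := Module.compHom _ α.symm.toRingHom
  obtain ⟨G, hG⟩ := h.lift Γ(P, D) (AddMonoidHom.id _) fun r x => by
    show r • x = α.symm (α r) • x
    rw [RingEquiv.symm_apply_apply]
  refine ⟨fun a b hab => (hG a).symm.trans ((congrArg G hab).trans (hG b)), fun n => ?_⟩
  induction h.span n using Submodule.span_induction with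
  | mem y hy => exact hy
  | zero => exact ⟨0, map_zero _⟩
  | add a b _ _ ha hb =>
    obtain ⟨a', rfl⟩ := ha
    obtain ⟨b', rfl⟩ := hb
    exact ⟨a' + b', map_add _ _ _⟩
  | smul s a _ ha =>
    obtain ⟨a', rfl⟩ := ha
    exact ⟨α.symm s • a', (h.smul _ _).trans (congrArg (fun z => z • KFlatLib.puSecLE g P (le_refl (g ⁻¹ᵁ D)) a')
      (α.apply_symm_apply s))⟩

/-- **Torsion of kernel and cokernel of the unit**, where the morphism is an isomorphism over a basic open. -/
theorem unit_torsion {X Y : Scheme.{u}} [IsAffine Y] (g : X ⟶ Y) [QuasiCompact g] [QuasiSeparated g] (P : Y.Modules)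
    [Coh.IsQCoh P] (a : Γ(Y, ⊤)) [IsIso (g ∣_ Y.basicOpen a)] :
    let u := ((Scheme.Modules.pullbackPushforwardAdjunction g).unit.app P).app ⊤
    (∀ x, u x = 0 → ∃ e : ℕ, a ^ e • x = 0) ∧
      ∀ h : Γ((Scheme.Modules.pushforward g).obj ((Scheme.Modules.pullback g).obj P), ⊤),
        ∃ (e : ℕ) (x : Γ(P, ⊤)), u x = a ^ e • h := by
  intro u
  let G := (Scheme.Modules.pushforward g).obj ((Scheme.Modules.pullback g).obj P)
  let η := (Scheme.Modules.pullbackPushforwardAdjunction g).unit.app P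
  haveI := KFlatLib.isQCoh_pullback g P
  haveI : Coh.IsQCoh G := QCohLib.isQCoh_pushforward g _
  let D := Y.basicOpen a
  have hD : IsAffineOpen D := (isAffineOpen_top Y).basicOpen a
  have hb : Function.Bijective (η.app D) := by
    have e : ∀ m, KFlatLib.puSecLE g P (le_refl (g ⁻¹ᵁ D)) m = η.app D m := fun m => by
      rw [KFlatLib.puSecLE_apply]
      exact (congr($(congrArg ((Scheme.Modules.pullback g).obj P).presheaf.map (Subsingleton.elim _ (𝟙 _))) _)).trans
        (congr($(((Scheme.Modules.pullback g).obj P).presheaf.map_id _) _))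
    rw [show (η.app D : _ → _) = KFlatLib.puSecLE g P (le_refl (g ⁻¹ᵁ D)) from funext fun m => (e m).symm]
    exact puSec_bijective_of_isIso g P hD
  have hP := QCohLib.localizingAt_of_isQCoh (isAffineOpen_top Y) P a
  have hG := QCohLib.localizingAt_of_isQCoh (isAffineOpen_top Y) G a
  have hres : ∀ m : Γ(P, ⊤), G.presheaf.map (homOfLE (Y.basicOpen_le a)).op (η.app ⊤ m) =
      η.app D (P.presheaf.map (homOfLE (Y.basicOpen_le a)).op m) := fun m =>
    (QCohLib.app_map η (homOfLE (Y.basicOpen_le a)) m).symm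
  have ha : Y.presheaf.map (homOfLE (le_refl (⊤ : Y.Opens))).op a = a :=
    (congr($(congrArg Y.presheaf.map (Subsingleton.elim _ (𝟙 _))) a)).trans (congr($(Y.presheaf.map_id _) a))
  refine ⟨fun x hx => ?_, fun h => ?_⟩
  · obtain ⟨e, he⟩ := hP.eq_zero x (hb.1 ((hres x).symm.trans ((congrArg _ hx).trans
      ((map_zero _).trans (map_zero _).symm))))
    exact ⟨e, by rwa [ha] at he⟩
  obtain ⟨t, ht⟩ := hb.2 (G.presheaf.map (homOfLE (Y.basicOpen_le a)).op h)
  obtain ⟨e, m, hm⟩ := hP.exists_extend t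
  obtain ⟨e', he'⟩ := hG.eq_zero ((show Γ(G, ⊤) from η.app ⊤ m) - a ^ e • h) (by
    refine (map_sub _ _ _).trans (sub_eq_zero.2 ?_)
    refine (hres m).trans ((congrArg (η.app D) hm).trans ?_)
    refine (η.app_smul _ _).trans ?_
    refine Eq.trans ?_ (Scheme.Modules.map_smul G (homOfLE (Y.basicOpen_le a)) (a ^ e) h).symm
    rw [map_pow]
    exact congrArg (fun z => (Y.presheaf.map (homOfLE (Y.basicOpen_le a)).op a) ^ e • z) ht)
  refine ⟨e' + e, a ^ e' • m, ?_⟩
  rw [ha, smul_sub, sub_eq_zero] at he'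
  refine (η.app_smul _ _).trans (he'.trans ?_)
  rw [pow_add, mul_smul]

end FKillLib

end
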