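import Groth.Agent.FKillLib.Glue
import Groth.Agent.FKillLib.Iso
import Groth.Agent.FRpushCmplLib.Compl
import Groth.Agent.FormalCohLib.Local
import Groth.Agent.CohGenLib.Pro
import Groth.Agent.AlgzCohLib.Complete

/-!
# Formal functions for the levels, and the torsion of kernel and cokernel
-/

set_option autoImplicit false
set_option linter.style.haveILetI false
set_option linter.unusedSectionVars false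
set_option maxHeartbeats 800000
set_option synthInstance.maxHeartbeats 80000

universe u

open CategoryTheory CategoryTheory.Limits AlgebraicGeometry TopologicalSpace Opposite FSch
open FModLib (MSec RSec oK piSec mres)
open FRpushLib (pre)
open FRpushCmplLib (cφ)

noncomputable section

namespace FKillLib

variable {X Z : Scheme.{u}} [IsNoetherian X] [X.IsSeparated] (f : Z ⟶ X) [IsProper f] (𝓘 : X.IdealSheafData)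
  (𝓚 : Z.IdealSheafData) (h𝓚 : 𝓚 = 𝓘.comap f) (hpc : PowCompat f 𝓚 𝓘) (hX : (completionAlong X 𝓘).IsFormal)
  (hZ : (completionAlong Z 𝓚).IsFormal) (𝔉 : ModF (completionAlong X 𝓘) hX)
  (h𝔉 : IsCohF _ hX 𝔉) {W : X.Opens} (hW : IsAffineOpen W)

/-- The scheme upstairs over the completed ring. -/
abbrev overZc : (Zc f 𝓘 hX hW).Over (Spec (CommRingCat.of (R₀ 𝓘 hX W))) := ⟨pullback.snd f (jS 𝓘 hX hW)⟩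

/-- The spectrum over itself. -/
abbrev overS : (Spec (R₀ 𝓘 hX W)).Over (Spec (CommRingCat.of (R₀ 𝓘 hX W))) := ⟨𝟙 _⟩

/-- The ideal of the completed ring. -/
abbrev IdI : Ideal (R₀ 𝓘 hX W) := (𝓘.ideal ⟨W, hW⟩).map (c₀ 𝓘 hX W).hom

/-- Global sections upstairs over the completed ring. -/
abbrev topMod : Module (R₀ 𝓘 hX W) Γ(Nc f 𝓘 hX 𝔉 hW, ⊤) :=
  Module.compHom _ (alphaR f 𝓘 hX hW ⊤)

theorem psiU_smul (U' : (Zc f 𝓘 hX hW).Opens) (r : R₀ 𝓘 hX W) (x : MSec 𝔉 (Vx 𝓘 W)) :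
    psiU f 𝓘 hX 𝔉 hW U' (r • x) = alphaR f 𝓘 hX hW U' r • psiU f 𝓘 hX 𝔉 hW U' x :=
  (congrArg (KFlatLib.puSecLE (pullback.snd f (jS 𝓘 hX hW)) (tilde (Mod₀ 𝓘 hX 𝔉 W)) (U := ⊤) (U' := U') le_top)
    (topSec_smul (Mod₀ 𝓘 hX 𝔉 W) r x)).trans (KFlatLib.puSecLE_smul _ _ _ _ _)

include hW in
theorem isNoetherian_R₀ : IsNoetherianRing (R₀ 𝓘 hX W) := by
  obtain ⟨I', hN, -⟩ := FCohLib.exists_adic (hlocC 𝓘 hX) (FRpushCmplLib.isAffine_pre 𝓘 hW)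
  exact hN

include hW h𝔉 in
theorem finite_MSec : Module.Finite (R₀ 𝓘 hX W) (MSec 𝔉 (Vx 𝓘 W)) := by
  classical
  have hV := FRpushCmplLib.isAffine_pre 𝓘 hW
  obtain ⟨ι, κ, _, _, ⟨D⟩⟩ := FCohLib.exists_presOn (hlocC 𝓘 hX) h𝔉 hV
  refine ⟨⟨Finset.univ.image fun i => mres 𝔉 le_rfl (D.e i), eq_top_iff.2 fun x _ => ?_⟩⟩
  obtain ⟨b, rfl⟩ := FCohLib.exists_comb (hlocC 𝓘 hX) h𝔉 D hV le_rfl x
  exact Submodule.sum_mem _ fun i _ => Submodule.smul_mem _ _ (Submodule.subset_span (by simp))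

theorem isNoetherian_Zc : AlgebraicGeometry.IsNoetherian (Zc f 𝓘 hX hW) := by
  haveI := isNoetherian_R₀ 𝓘 hX hW
  haveI : IsLocallyNoetherian (Zc f 𝓘 hX hW) := LocallyOfFiniteType.isLocallyNoetherian (pullback.snd f (jS 𝓘 hX hW))
  haveI : CompactSpace (Zc f 𝓘 hX hW) := QuasiCompact.compactSpace_of_compactSpace (pullback.snd f (jS 𝓘 hX hW))
  exact {}

include h𝔉 in
theorem isCoh_Nc : Coh.IsCoh (Nc f 𝓘 hX 𝔉 hW) := by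
  haveI := isNoetherian_R₀ 𝓘 hX hW
  haveI := isNoetherian_Zc f 𝓘 hX hW
  haveI := finite_MSec 𝓘 hX 𝔉 h𝔉 hW
  have h : Coh.IsCoh (tilde (Mod₀ 𝓘 hX 𝔉 W)) :=
    AlgzCohLib.isCoh_tilde (A := (R₀ 𝓘 hX W : Type u)) (Mod₀ 𝓘 hX 𝔉 W)
  exact ConsLib.isCoh_pullback (pullback.snd f (jS 𝓘 hX hW)) h

theorem exists_AffIn_mem (p : Zc f 𝓘 hX hW) : ∃ U : AffIn f W, p ∈ Uc f 𝓘 hX hW U.1 := by
  have hp : pullback.fst f (jS 𝓘 hX hW) p ∈ f ⁻¹ᵁ W := by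
    show (pullback.fst f (jS 𝓘 hX hW) ≫ f) p ∈ W
    rw [pullback.condition]
    exact le_jS 𝓘 hX hW trivial
  obtain ⟨U, hU, hpU, hUW⟩ := Opens.isBasis_iff_nbhd.mp Z.isBasis_affineOpens hp
  exact ⟨⟨U, hU, hUW⟩, hpU⟩

theorem rhoA_eq (U' : (Zc f 𝓘 hX hW).Opens) :
    letI := overZc f 𝓘 hX hW
    FormalLib.rhoA (R₀ 𝓘 hX W : Type u) U' = alphaR f 𝓘 hX hW U' :=
  RingHom.ext fun _ => rfl

/-- Restriction to a piece. -/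
abbrev resC (U : AffIn f W) : Γ(Nc f 𝓘 hX 𝔉 hW, ⊤) →+ Γ(Nc f 𝓘 hX 𝔉 hW, Uc f 𝓘 hX hW U.1) :=
  ((Nc f 𝓘 hX 𝔉 hW).presheaf.map (homOfLE le_top).op).hom

/-- The reduction of a global section. -/
abbrev red (U : AffIn f W) (k : ℕ) (h : Γ(Nc f 𝓘 hX 𝔉 hW, ⊤)) :
    Γ(Lk f 𝓘 𝓚 hpc hX 𝔉 k, (completionAlong Z 𝓚).lvU hZ k (Vz 𝓚 U.1)) :=
  Psi f 𝓘 𝓚 h𝓚 hpc hX hZ 𝔉 h𝔉 hW U k (resC f 𝓘 hX 𝔉 hW U h)

include h𝓚 h𝔉 in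
/-- Vanishing in the reduction of the module, tested on a level. -/
theorem pi_zero_iff (U : AffIn f W) (k : ℕ) (h : Γ(Nc f 𝓘 hX 𝔉 hW, Uc f 𝓘 hX hW U.1)) :
    letI := overZc f 𝓘 hX hW
    (Formal.modPowπ (IdI 𝓘 hX hW) (k + 1) (Nc f 𝓘 hX 𝔉 hW)).app (Uc f 𝓘 hX hW U.1) h = 0 ↔
      Psi f 𝓘 𝓚 h𝓚 hpc hX hZ 𝔉 h𝔉 hW U k h = 0 := by
  letI := overZc f 𝓘 hX hW
  haveI := isNoetherian_Zc f 𝓘 hX hW
  haveI := (isCoh_Nc f 𝓘 hX 𝔉 h𝔉 hW).1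
  obtain ⟨-, -, -, -, -, hk⟩ := Psi_spec f 𝓘 𝓚 h𝓚 hpc hX hZ 𝔉 h𝔉 hW U k
  refine (FormalCohLib.app_modPowπ_eq_zero (IdI 𝓘 hX hW) _ (k + 1) (isAffine_Uc f 𝓘 hX hW U) h).trans
    (Iff.trans ?_ (hk h).symm)
  rw [FormalCohLib.idU_pow, rhoA_eq, IdI, ← Ideal.map_pow]

/-- The open of the completion of the source over the open. -/
abbrev Vz' : ((completionAlong Z 𝓚).X 0).Opens := pre ((cφ f 𝓘 𝓚 hpc : Hom _ _).app 0).base (Vx 𝓘 W)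

theorem Vz_le {U : Z.Opens} (hUW : U ≤ f ⁻¹ᵁ W) (k : ℕ) :
    (completionAlong Z 𝓚).lvU hZ k (Vz 𝓚 U) ≤ (completionAlong Z 𝓚).lvU hZ k (Vz' f 𝓘 𝓚 hpc (W := W)) :=
  (Opens.map ((completionAlong Z 𝓚).gInv hZ k)).monotone
    (((completionToX Z 𝓚 0).preimage_mono hUW).trans (FRpushCmplLib.pre_eq f 𝓘 𝓚 hpc W).ge)

/-- Restriction of a section of a level to a piece. -/
abbrev resL (U : AffIn f W) (k : ℕ) :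
    Γ(Lk f 𝓘 𝓚 hpc hX 𝔉 k, (completionAlong Z 𝓚).lvU hZ k (Vz' f 𝓘 𝓚 hpc (W := W))) →+
      Γ(Lk f 𝓘 𝓚 hpc hX 𝔉 k, (completionAlong Z 𝓚).lvU hZ k (Vz 𝓚 U.1)) :=
  ((Lk f 𝓘 𝓚 hpc hX 𝔉 k).presheaf.map (homOfLE (Vz_le f 𝓘 𝓚 hpc hZ U.2.2 k)).op).hom

theorem lvT_res' {𝔛 : Sys.{u}} (h : 𝔛.IsFormal) (G : ∀ k, (𝔛.X k).Modules)
    (t : ∀ k, G (k + 1) ⟶ (Scheme.Modules.pushforward (𝔛.ι k)).obj (G k)) (k : ℕ) {V₁ V₂ : (𝔛.X 0).Opens}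
    (hle : V₁ ≤ V₂) (m : Γ(G (k + 1), 𝔛.lvU h (k + 1) V₂)) :
    FCohLib.lvT h G t k V₁
        ((G (k + 1)).presheaf.map (homOfLE ((Opens.map (𝔛.gInv h (k + 1))).monotone hle)).op m) =
      (G k).presheaf.map (homOfLE ((Opens.map (𝔛.gInv h k)).monotone hle)).op (FCohLib.lvT h G t k V₂ m) :=
  ((congrArg ((G k).presheaf.map (homOfLE (𝔛.lvU_le h k V₁)).op)
      (QCohLib.app_map (t k) (homOfLE ((Opens.map (𝔛.gInv h (k + 1))).monotone hle)) m)).trans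
    (QCohLib.map_map' (G k) _ ((Opens.map (𝔛.ι k).base).map (homOfLE ((Opens.map (𝔛.gInv h (k + 1))).monotone hle)))
      ((t k).app _ m))).trans
    (QCohLib.map_map' (G k) (homOfLE ((Opens.map (𝔛.gInv h k)).monotone hle)) (homOfLE (𝔛.lvU_le h k V₂))
      ((t k).app _ m)).symm

/-- Compatible families of sections of the levels. -/
def IsCompat (z : ∀ k, Γ(Lk f 𝓘 𝓚 hpc hX 𝔉 k, (completionAlong Z 𝓚).lvU hZ k (Vz' f 𝓘 𝓚 hpc (W := W)))) : Prop :=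
  ∀ k, FCohLib.lvT hZ (Lsys f 𝓘 𝓚 hpc hX 𝔉).F (Lsys f 𝓘 𝓚 hpc hX 𝔉).toPush k _ (z (k + 1)) = z k

theorem lvT_resL (U : AffIn f W) (k : ℕ)
    (m : Γ(Lk f 𝓘 𝓚 hpc hX 𝔉 (k + 1), (completionAlong Z 𝓚).lvU hZ (k + 1) (Vz' f 𝓘 𝓚 hpc (W := W)))) :
    FCohLib.lvT hZ (Lsys f 𝓘 𝓚 hpc hX 𝔉).F (Lsys f 𝓘 𝓚 hpc hX 𝔉).toPush k (Vz 𝓚 U.1)
        (resL f 𝓘 𝓚 hpc hX hZ 𝔉 U (k + 1) m) =
      resL f 𝓘 𝓚 hpc hX hZ 𝔉 U k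
        (FCohLib.lvT hZ (Lsys f 𝓘 𝓚 hpc hX 𝔉).F (Lsys f 𝓘 𝓚 hpc hX 𝔉).toPush k (Vz' f 𝓘 𝓚 hpc (W := W)) m) := by
  exact lvT_res' hZ (Lsys f 𝓘 𝓚 hpc hX 𝔉).F (Lsys f 𝓘 𝓚 hpc hX 𝔉).toPush k
    (((completionToX Z 𝓚 0).preimage_mono U.2.2).trans (FRpushCmplLib.pre_eq f 𝓘 𝓚 hpc W).ge) m

include h𝓚 h𝔉 in
theorem Psi_down (U : AffIn f W) (m : Γ(Nc f 𝓘 hX 𝔉 hW, Uc f 𝓘 hX hW U.1))
    {z : ∀ k, Γ(Lk f 𝓘 𝓚 hpc hX 𝔉 k, (completionAlong Z 𝓚).lvU hZ k (Vz' f 𝓘 𝓚 hpc (W := W)))}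
    (hz : IsCompat f 𝓘 𝓚 hpc hX hZ 𝔉 z) (n : ℕ) : ∀ d,
    Psi f 𝓘 𝓚 h𝓚 hpc hX hZ 𝔉 h𝔉 hW U (n + d) m = resL f 𝓘 𝓚 hpc hX hZ 𝔉 U (n + d) (z (n + d)) →
      Psi f 𝓘 𝓚 h𝓚 hpc hX hZ 𝔉 h𝔉 hW U n m = resL f 𝓘 𝓚 hpc hX hZ 𝔉 U n (z n) := by
  intro d
  induction d with
  | zero => exact fun h => h
  | succ d ih =>
    intro h
    refine ih ?_
    refine (Psi_succ f 𝓘 𝓚 h𝓚 hpc hX hZ 𝔉 h𝔉 hW U (n + d) m).symm.trans ?_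
    have e := congrArg (FCohLib.lvT hZ (Lsys f 𝓘 𝓚 hpc hX 𝔉).F (Lsys f 𝓘 𝓚 hpc hX 𝔉).toPush (n + d) (Vz 𝓚 U.1)) h
    refine e.trans ?_
    refine (lvT_resL f 𝓘 𝓚 hpc hX hZ 𝔉 U (n + d) (z (n + d + 1))).trans ?_
    exact congrArg (resL f 𝓘 𝓚 hpc hX hZ 𝔉 U (n + d)) (hz (n + d))

include h𝓚 h𝔉 in
/-- **The bounds of formal functions, on the reductions.** -/
theorem exists_bounds (n : ℕ) :
    ∃ m, n ≤ m ∧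
      (letI := overZc f 𝓘 hX hW
       ∀ k, m ≤ k → ∀ (h : n + 1 ≤ k + 1) (s : Γ(Formal.modPow (IdI 𝓘 hX hW) (k + 1) (Nc f 𝓘 hX 𝔉 hW), ⊤)),
        ∃ x : Γ(Nc f 𝓘 hX 𝔉 hW, ⊤), (Formal.modPowπ (IdI 𝓘 hX hW) (n + 1) (Nc f 𝓘 hX 𝔉 hW)).app ⊤ x =
          (Formal2.modPowLE (IdI 𝓘 hX hW) h (Nc f 𝓘 hX 𝔉 hW)).app ⊤ s) ∧
      (∀ x : Γ(Nc f 𝓘 hX 𝔉 hW, ⊤), (∀ U : AffIn f W, red f 𝓘 𝓚 h𝓚 hpc hX hZ 𝔉 h𝔉 hW U m x = 0) →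
        letI := topMod f 𝓘 hX 𝔉 hW
        x ∈ (IdI 𝓘 hX hW ^ (n + 1) • ⊤ : Submodule (R₀ 𝓘 hX W) Γ(Nc f 𝓘 hX 𝔉 hW, ⊤))) := by
  letI := overZc f 𝓘 hX hW
  letI := overS 𝓘 hX (W := W)
  haveI := isNoetherian_R₀ 𝓘 hX hW
  haveI := isNoetherian_Zc f 𝓘 hX hW
  haveI : AlgebraicGeometry.IsNoetherian (Spec (R₀ 𝓘 hX W)) := inferInstance
  haveI := (isCoh_Nc f 𝓘 hX 𝔉 h𝔉 hW).1
  obtain ⟨m, hnm, hm⟩ := FormalCohLib.exists_formal_bounds (IdI 𝓘 hX hW) (pullback.snd f (jS 𝓘 hX hW))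
    (Category.comp_id _) (isCoh_Nc f 𝓘 hX 𝔉 h𝔉 hW) (isAffineOpen_top (Spec (R₀ 𝓘 hX W))) n
  refine ⟨m, hnm, fun k hk h s => (hm k hk h).1 s, fun x hx => ?_⟩
  have h0 : (Formal.modPowπ (IdI 𝓘 hX hW) (m + 1) (Nc f 𝓘 hX 𝔉 hW)).app ⊤ x = 0 := by
    refine FCohLib.eq_zero_of_points (Formal.modPow (IdI 𝓘 hX hW) (m + 1) (Nc f 𝓘 hX 𝔉 hW)) _ fun p _ => ?_
    obtain ⟨U, hpU⟩ := exists_AffIn_mem f 𝓘 hX hW p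
    refine ⟨Uc f 𝓘 hX hW U.1, le_top, hpU, ?_⟩
    refine (QCohLib.app_map (Formal.modPowπ (IdI 𝓘 hX hW) (m + 1) (Nc f 𝓘 hX 𝔉 hW)) (homOfLE le_top) x).symm.trans ?_
    exact (pi_zero_iff f 𝓘 𝓚 h𝓚 hpc hX hZ 𝔉 h𝔉 hW U m _).2 (hx U)
  have h1 := (hm m le_rfl (Nat.succ_le_succ hnm)).2 x h0
  letI := topMod f 𝓘 hX 𝔉 hW
  let P := IdI 𝓘 hX hW ^ (n + 1)
  refine Submodule.smul_induction_on (p := fun (z : Γ((Scheme.Modules.pushforward (pullback.snd f (jS 𝓘 hX hW))).obj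
    (Nc f 𝓘 hX 𝔉 hW), (⊤ : (Spec (R₀ 𝓘 hX W)).Opens))) => (show Γ(Nc f 𝓘 hX 𝔉 hW, ⊤) from z) ∈
    (P • ⊤ : Submodule (R₀ 𝓘 hX W) Γ(Nc f 𝓘 hX 𝔉 hW, ⊤))) h1 (fun r hr z _ => ?_) fun a b ha hb => Submodule.add_mem _ ha hb
  rw [FormalCohLib.idU_pow] at hr
  have hsurj : Function.Surjective (FormalLib.rhoA (R₀ 𝓘 hX W : Type u) (⊤ : (Spec (R₀ 𝓘 hX W)).Opens)) := fun b => by
    obtain ⟨a, ha⟩ := (ConcreteCategory.bijective_of_isIso (Scheme.ΓSpecIso (R₀ 𝓘 hX W)).inv).2 b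
    exact ⟨a, (congr($(congrArg (Spec (R₀ 𝓘 hX W)).presheaf.map (Subsingleton.elim _ (𝟙 _))) _)).trans
      ((congr($((Spec (R₀ 𝓘 hX W)).presheaf.map_id _) _)).trans ha)⟩
  obtain ⟨i, hi, rfl⟩ := (Ideal.mem_map_iff_of_surjective _ hsurj).1 hr
  have e : (pullback.snd f (jS 𝓘 hX hW)).app ⊤ (FormalLib.rhoA (R₀ 𝓘 hX W : Type u) (⊤ : (Spec (R₀ 𝓘 hX W)).Opens) i) =
      alphaR f 𝓘 hX hW ⊤ i := by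
    rw [Scheme.Hom.app_eq_appLE]
    exact congrArg ((pullback.snd f (jS 𝓘 hX hW)).appLE ⊤ ⊤ le_top)
      ((congr($(congrArg (Spec (R₀ 𝓘 hX W)).presheaf.map (Subsingleton.elim _ (𝟙 _))) _)).trans
        (congr($((Spec (R₀ 𝓘 hX W)).presheaf.map_id _) _)))
  have hz : (show Γ(Nc f 𝓘 hX 𝔉 hW, ⊤) from alphaR f 𝓘 hX hW ⊤ i • (show Γ(Nc f 𝓘 hX 𝔉 hW, ⊤) from z)) ∈
      (P • ⊤ : Submodule (R₀ 𝓘 hX W) Γ(Nc f 𝓘 hX 𝔉 hW, ⊤)) := Submodule.smul_mem_smul hi trivial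
  rw [← e] at hz
  exact hz

end FKillLib

end
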