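import Groth.Agent.FKillLib.Unit
import Groth.Agent.FRpushLib.CohFinal
import Groth.Agent.FRpushCmplLib.Morph
import Groth.Agent.ModSiteLib.Grothendieck
import Groth.Agent.ModSiteLib.PullFlat

/-!
# The kernel and cokernel of the unit are killed by a power
-/

set_option autoImplicit false
set_option linter.style.haveILetI false
set_option linter.unusedSectionVars false
set_option maxHeartbeats 800000
set_option synthInstance.maxHeartbeats 80000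

universe u

open CategoryTheory CategoryTheory.Limits AlgebraicGeometry TopologicalSpace Opposite FSch
open FModLib (MSec RSec mres rres lc)
open FRpushLib (pre)
open FRpushCmplLib (cφ)

noncomputable section

namespace FKillLib

variable {X Z : Scheme.{u}} [IsNoetherian X] [X.IsSeparated] (f : Z ⟶ X) [IsProper f] (𝓘 : X.IdealSheafData)
  (𝓚 : Z.IdealSheafData) (h𝓚 : 𝓚 = 𝓘.comap f) (hpc : PowCompat f 𝓚 𝓘) (hX : (completionAlong X 𝓘).IsFormal)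
  (hZ : (completionAlong Z 𝓚).IsFormal) (𝔉 : ModF (completionAlong X 𝓘) hX)
  (h𝔉 : IsCohF _ hX 𝔉)

include h𝓚 h𝔉 in
/-- The target of the unit is coherent. -/
theorem isCohF_target :
    IsCohF _ hX ((pushF (cφ f 𝓘 𝓚 hpc) hZ hX).obj ((pullF (cφ f 𝓘 𝓚 hpc) hZ hX).obj 𝔉)) := by
  haveI := isLocallyNoetherian_src f
  haveI : CompactSpace Z := QuasiCompact.compactSpace_of_compactSpace f
  haveI : AlgebraicGeometry.IsNoetherian Z := {}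
  haveI : EnoughInjectives (ModF (completionAlong Z 𝓚) (hlocC 𝓚 hZ).1) := ModSiteLib.sheafOfModules_enoughInjectives _
  haveI : SheafOfModules.IsFinitePresentation (R := ModSite.ringSh ((completionAlong X 𝓘).Osh hX)) 𝔉 := h𝔉
  have hP : IsCohF _ hZ ((pullF (cφ f 𝓘 𝓚 hpc) hZ hX).obj 𝔉) :=
    FModLib.isFP_pull ((cφ f 𝓘 𝓚 hpc : Hom _ _).app 0).base (Hom.sharp (cφ f 𝓘 𝓚 hpc) hZ hX) 𝔉
  have h := FRpushLib.isCohF_rpush (h𝔜 := hlocC 𝓘 hX) (hloc := hlocC 𝓚 hZ)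
    (FRpushCmplLib.isProperHom_cφ f 𝓘 𝓚 h𝓚 hpc) hP 0
  haveI : PreservesLimits (pushF (cφ f 𝓘 𝓚 hpc) hZ hX) :=
    (homMor (cφ f 𝓘 𝓚 hpc) hZ hX).adj.rightAdjoint_preservesLimits
  haveI : PreservesFiniteLimits (pushF (cφ f 𝓘 𝓚 hpc) hZ hX) := inferInstance
  exact ((SheafOfModules.isFinitePresentation (ModSite.ringSh ((completionAlong X 𝓘).Osh hX))).prop_of_iso
    ((pushF (cφ f 𝓘 𝓚 hpc) hZ hX).rightDerivedZeroIsoSelf.app _) h :)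

/-- Restriction of the scalars. -/
theorem rres_c₀ {U U' : X.Opens} (h : U' ≤ U) (a : Γ(X, U)) :
    rres ((completionAlong X 𝓘).Osh hX) ((completionToX X 𝓘 0).preimage_mono h) (c₀ 𝓘 hX U a) =
      c₀ 𝓘 hX U' (X.presheaf.map (homOfLE h).op a) :=
  (congr($((schSharp (completionAlong X 𝓘) hX (completionToX X 𝓘) (completionToX_comm X 𝓘)).hom.naturality
    (homOfLE h).op) a)).symm

theorem smul_res_zero (𝓜 : X.IdealSheafData) (n : ℕ) (M : ModF (completionAlong X 𝓘) hX) {U' W : X.affineOpens}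
    (h : U' ≤ W) (z : MSec M (Vx 𝓘 U'.1))
    (h0 : ∀ a ∈ 𝓜.ideal W ^ n, c₀ 𝓘 hX U'.1 (X.presheaf.map (homOfLE h).op a) • z = 0)
    {t : Γ(X, U'.1)} (ht : t ∈ (𝓜 ^ n).ideal U') : c₀ 𝓘 hX U'.1 t • z = 0 := by
  rw [← Scheme.IdealSheafData.map_ideal _ h, FRpushCmplLib.powIdeal] at ht
  induction ht using Submodule.span_induction with
  | mem y hy => obtain ⟨a, ha, rfl⟩ := hy; exact h0 a ha
  | zero => exact (congrArg (fun r : R₀ 𝓘 hX U'.1 => r • z) (map_zero (c₀ 𝓘 hX U'.1).hom)).trans (zero_smul _ z)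
  | add a b _ _ ha hb =>
    exact (congrArg (fun r : R₀ 𝓘 hX U'.1 => r • z) (map_add (c₀ 𝓘 hX U'.1).hom a b)).trans
      ((add_smul _ _ z).trans ((congrArg₂ (· + ·) ha hb).trans (add_zero _)))
  | smul a b _ hb =>
    exact (congrArg (fun r : R₀ 𝓘 hX U'.1 => r • z) (map_mul (c₀ 𝓘 hX U'.1).hom a b)).trans
      ((mul_smul _ _ z).trans ((congrArg (fun v => c₀ 𝓘 hX U'.1 a • v) hb).trans (smul_zero _)))

theorem smul_zero_of_local (𝓜 : X.IdealSheafData) (n : ℕ) (M : ModF (completionAlong X 𝓘) hX) (U : X.affineOpens)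
    {s : Γ(X, U.1)} (hs : s ∈ (𝓜 ^ n).ideal U) (x : MSec M (Vx 𝓘 U.1))
    (h : ∀ q ∈ Vx 𝓘 U.1, ∃ (W U' : X.affineOpens) (hU : U' ≤ U) (hW : U' ≤ W), q ∈ Vx 𝓘 U'.1 ∧
      ∀ a ∈ 𝓜.ideal W ^ n, c₀ 𝓘 hX U'.1 (X.presheaf.map (homOfLE hW).op a) •
        mres M ((completionToX X 𝓘 0).preimage_mono hU) x = 0) : c₀ 𝓘 hX U.1 s • x = 0 := by
  refine FCohLib.eq_zero_of_points M _ fun q hq => ?_
  obtain ⟨W, U', hU, hW, hq', h0⟩ := h q hq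
  refine ⟨Vx 𝓘 U'.1, (completionToX X 𝓘 0).preimage_mono hU, hq', ?_⟩
  refine (PresheafOfModules.map_smul M.val (homOfLE ((completionToX X 𝓘 0).preimage_mono hU)).op _ x).trans ?_
  refine (congrArg (fun r : R₀ 𝓘 hX U'.1 => r • mres M ((completionToX X 𝓘 0).preimage_mono hU) x)
    (rres_c₀ 𝓘 hX hU s)).trans ?_
  refine smul_res_zero 𝓘 hX 𝓜 n M hW _ h0 ?_
  rw [← Scheme.IdealSheafData.map_ideal _ hU]
  exact Ideal.mem_map_of_mem _ hs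

variable (𝓜 : X.IdealSheafData) (hM : IsIso (f ∣_ 𝓜.support.compl))

/-- A power killing kernel and cokernel over an affine open. -/
def KillOn (n : ℕ) (W : X.affineOpens) : Prop :=
  ∀ s ∈ 𝓜.ideal W ^ n,
    (∀ x, (eta f 𝓘 𝓚 hpc hX hZ 𝔉).val.app (op (Vx 𝓘 W.1)) x = 0 → c₀ 𝓘 hX W.1 s • x = 0) ∧
      ∀ y : MSec ((pushF (cφ f 𝓘 𝓚 hpc) hZ hX).obj ((pullF (cφ f 𝓘 𝓚 hpc) hZ hX).obj 𝔉)) (Vx 𝓘 W.1),
        ∃ x, (eta f 𝓘 𝓚 hpc hX hZ 𝔉).val.app (op (Vx 𝓘 W.1)) x = c₀ 𝓘 hX W.1 s • y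

include h𝓚 h𝔉 in
theorem kernel_smul_zero {n : ℕ} {W : X.affineOpens} (hk : KillOn f 𝓘 𝓚 hpc hX hZ 𝔉 𝓜 n W) {U' : X.affineOpens}
    (hW : U' ≤ W) (x : MSec (kernel (eta f 𝓘 𝓚 hpc hX hZ 𝔉)) (Vx 𝓘 U'.1)) {a : Γ(X, W.1)}
    (ha : a ∈ 𝓜.ideal W ^ n) : c₀ 𝓘 hX U'.1 (X.presheaf.map (homOfLE hW).op a) • x = 0 := by
  classical
  let hloc := hlocC 𝓘 hX
  let θ := eta f 𝓘 𝓚 hpc hX hZ 𝔉
  have hK : IsCohF _ hX (kernel θ) :=
    FCohLib.isCohF_kernel hloc h𝔉 (isCohF_target f 𝓘 𝓚 h𝓚 hpc hX hZ 𝔉 h𝔉) θ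
  obtain ⟨ι, κ, _, _, ⟨D⟩⟩ := FCohLib.exists_presOn hloc hK (FRpushCmplLib.isAffine_pre 𝓘 W.2)
  let hle := (completionToX X 𝓘 0).preimage_mono hW
  obtain ⟨b, rfl⟩ := FCohLib.exists_comb hloc hK D (FRpushCmplLib.isAffine_pre 𝓘 U'.2) hle x
  refine Finset.smul_sum.trans (Finset.sum_eq_zero fun i _ => ?_)
  refine (smul_comm _ (b i) _).trans ?_
  refine (congrArg (fun v => b i • v) ?_).trans (smul_zero _)
  refine (congrArg (fun r : R₀ 𝓘 hX U'.1 => r • _) (rres_c₀ 𝓘 hX hW a).symm).trans ?_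
  refine (PresheafOfModules.map_smul (kernel θ).val (homOfLE hle).op (c₀ 𝓘 hX W.1 a) (D.e i)).symm.trans ?_
  refine (congrArg (mres (kernel θ) hle) ?_).trans (map_zero _)
  refine _root_.ModSiteLib.injective_ap_of_mono (kernel.ι θ) (Vx 𝓘 W.1) ?_
  refine ((map_smul ((kernel.ι θ).val.app (op (Vx 𝓘 W.1))).hom (c₀ 𝓘 hX W.1 a) (D.e i)).trans ?_).trans
    (map_zero ((kernel.ι θ).val.app (op (Vx 𝓘 W.1))).hom).symm
  exact (hk a ha).1 _ (congr($(congrArg (fun t : kernel θ ⟶ _ => t.val.app (op (Vx 𝓘 W.1))) (kernel.condition θ)) (D.e i)))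

include h𝓚 h𝔉 in
theorem cokernel_smul_zero {n : ℕ} {W : X.affineOpens} (hk : KillOn f 𝓘 𝓚 hpc hX hZ 𝔉 𝓜 n W) {U' : X.affineOpens}
    (hW : U' ≤ W)
    (y : MSec ((pushF (cφ f 𝓘 𝓚 hpc) hZ hX).obj ((pullF (cφ f 𝓘 𝓚 hpc) hZ hX).obj 𝔉)) (Vx 𝓘 U'.1))
    {a : Γ(X, W.1)} (ha : a ∈ 𝓜.ideal W ^ n) :
    c₀ 𝓘 hX U'.1 (X.presheaf.map (homOfLE hW).op a) •
      (cokernel.π (eta f 𝓘 𝓚 hpc hX hZ 𝔉)).val.app (op (Vx 𝓘 U'.1)) y = 0 := by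
  classical
  let hloc := hlocC 𝓘 hX
  let θ := eta f 𝓘 𝓚 hpc hX hZ 𝔉
  have hG := isCohF_target f 𝓘 𝓚 h𝓚 hpc hX hZ 𝔉 h𝔉
  obtain ⟨ι, κ, _, _, ⟨D⟩⟩ := FCohLib.exists_presOn hloc hG (FRpushCmplLib.isAffine_pre 𝓘 W.2)
  let hle := (completionToX X 𝓘 0).preimage_mono hW
  obtain ⟨b, rfl⟩ := FCohLib.exists_comb hloc hG D (FRpushCmplLib.isAffine_pre 𝓘 U'.2) hle y
  refine (congrArg (fun v => c₀ 𝓘 hX U'.1 (X.presheaf.map (homOfLE hW).op a) • v)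
    (map_sum ((cokernel.π θ).val.app (op (Vx 𝓘 U'.1))).hom _ _)).trans ?_
  refine Finset.smul_sum.trans (Finset.sum_eq_zero fun i _ => ?_)
  refine (congrArg (fun v => c₀ 𝓘 hX U'.1 (X.presheaf.map (homOfLE hW).op a) • v)
    (map_smul ((cokernel.π θ).val.app (op (Vx 𝓘 U'.1))).hom (b i) _)).trans ((smul_comm _ (b i) _).trans ?_)
  refine (congrArg (fun v => b i • v) ?_).trans (smul_zero _)
  refine (congrArg (fun r : R₀ 𝓘 hX U'.1 => r • _) (rres_c₀ 𝓘 hX hW a).symm).trans ?_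
  refine (congrArg (fun v => rres ((completionAlong X 𝓘).Osh hX) hle (c₀ 𝓘 hX W.1 a) • v)
    (PresheafOfModules.naturality_apply (cokernel.π θ).val (homOfLE hle).op (D.e i))).trans ?_
  refine (PresheafOfModules.map_smul (cokernel θ).val (homOfLE hle).op (c₀ 𝓘 hX W.1 a) _).symm.trans ?_
  refine (congrArg (mres (cokernel θ) hle) ?_).trans (map_zero _)
  obtain ⟨x, hx⟩ := (hk a ha).2 (D.e i)
  refine (map_smul ((cokernel.π θ).val.app (op (Vx 𝓘 W.1))).hom (c₀ 𝓘 hX W.1 a) (D.e i)).symm.trans ?_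
  refine (congrArg ((cokernel.π θ).val.app (op (Vx 𝓘 W.1))) hx).symm.trans ?_
  exact congr($(congrArg (fun t : _ ⟶ cokernel θ => t.val.app (op (Vx 𝓘 W.1))) (cokernel.condition θ)) x)

include h𝓚 h𝔉 hM in
/-- **Kernel and cokernel of the unit are killed by a power.** -/
theorem exists_kill_all : ∃ n : ℕ, 0 < n ∧ ∀ (U : X.affineOpens) (s : Γ(X, U.1)), s ∈ (𝓜 ^ n).ideal U →
    (∀ x : MSec (kernel (eta f 𝓘 𝓚 hpc hX hZ 𝔉)) (Vx 𝓘 U.1), c₀ 𝓘 hX U.1 s • x = 0) ∧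
      ∀ x : MSec (cokernel (eta f 𝓘 𝓚 hpc hX hZ 𝔉)) (Vx 𝓘 U.1), c₀ 𝓘 hX U.1 s • x = 0 := by
  classical
  obtain ⟨C, hC⟩ := FormalCohLib.exists_cover (X := X)
  choose m hm using fun W : X.affineOpens => exists_kill_sec f 𝓘 𝓚 h𝓚 hpc hX hZ 𝔉 h𝔉 W.2 𝓜 hM
  refine ⟨C.sup m + 1, Nat.succ_pos _, fun U s hs => ?_⟩
  have hk : ∀ W ∈ C, KillOn f 𝓘 𝓚 hpc hX hZ 𝔉 𝓜 (C.sup m + 1) W := fun W hW a ha =>
    hm W a (Ideal.pow_le_pow_right ((Finset.le_sup hW).trans (Nat.le_succ _)) ha)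
  refine ⟨fun x => smul_zero_of_local 𝓘 hX 𝓜 _ _ U hs x fun q hq => ?_,
    fun x => smul_zero_of_local 𝓘 hX 𝓜 _ _ U hs x fun q hq => ?_⟩
  · obtain ⟨W, hWC, hqW⟩ := hC (completionToX X 𝓘 0 q)
    obtain ⟨U', hU', hqU', hle⟩ := Opens.isBasis_iff_nbhd.mp X.isBasis_affineOpens
      (U := U.1 ⊓ W.1) (x := completionToX X 𝓘 0 q) ⟨hq, hqW⟩
    exact ⟨W, ⟨U', hU'⟩, hle.trans inf_le_left, hle.trans inf_le_right, hqU', fun a ha =>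
      kernel_smul_zero f 𝓘 𝓚 h𝓚 hpc hX hZ 𝔉 h𝔉 𝓜 (hk W hWC) _ _ ha⟩
  · obtain ⟨V', g, ⟨y, hy⟩, hqV'⟩ := FCohLib.exists_of_loc_opens
      (_root_.ModSiteLib.loc_of_epi (cokernel.π (eta f 𝓘 𝓚 hpc hX hZ 𝔉)) x) hq
    haveI := FComplLib.isClosedImmersion_completionToX X 𝓘 0
    obtain ⟨O, hO, hOV⟩ := (completionToX X 𝓘 0).isClosedEmbedding.isInducing.isOpen_iff.1 V'.2
    obtain ⟨W, hWC, hqW⟩ := hC (completionToX X 𝓘 0 q)
    have hqO : completionToX X 𝓘 0 q ∈ (⟨O, hO⟩ : X.Opens) := hOV.ge hqV'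
    obtain ⟨U', hU', hqU', hle⟩ := Opens.isBasis_iff_nbhd.mp X.isBasis_affineOpens
      (U := U.1 ⊓ W.1 ⊓ ⟨O, hO⟩) (x := completionToX X 𝓘 0 q) ⟨⟨hq, hqW⟩, hqO⟩
    have hV : Vx 𝓘 U' ≤ V' := fun p hp => hOV.le (hle hp).2
    refine ⟨W, ⟨U', hU'⟩, hle.trans (inf_le_left.trans inf_le_left), hle.trans (inf_le_left.trans inf_le_right), hqU',
      fun a ha => ?_⟩
    have e : mres (cokernel (eta f 𝓘 𝓚 hpc hX hZ 𝔉))
        ((completionToX X 𝓘 0).preimage_mono (hle.trans (inf_le_left.trans inf_le_left))) x =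
        (cokernel.π (eta f 𝓘 𝓚 hpc hX hZ 𝔉)).val.app (op (Vx 𝓘 U')) (mres _ hV y) := by
      refine Eq.trans ?_ (PresheafOfModules.naturality_apply (cokernel.π (eta f 𝓘 𝓚 hpc hX hZ 𝔉)).val (homOfLE hV).op y).symm
      exact ((congrArg (mres (cokernel (eta f 𝓘 𝓚 hpc hX hZ 𝔉)) hV) hy).trans (FModLib.mres_mres _ hV g.le x)).symm
    refine (congrArg (fun v => c₀ 𝓘 hX U' (X.presheaf.map
      (homOfLE (hle.trans (inf_le_left.trans inf_le_right))).op a) • v) e).trans ?_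
    exact cokernel_smul_zero f 𝓘 𝓚 h𝓚 hpc hX hZ 𝔉 h𝔉 𝓜 (hk W hWC) (U' := ⟨U', hU'⟩) _ _ ha

end FKillLib

end
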