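import Groth.Agent.FKillLib.Level
import Groth.Agent.FCohLib.PullReal
import Groth.Agent.FCohLib.PushCompl

/-!
# Compatibility of the reductions with restriction and with the transition maps
-/

set_option autoImplicit false
set_option linter.style.haveILetI false
set_option linter.unusedSectionVars false
set_option maxHeartbeats 800000
set_option synthInstance.maxHeartbeats 80000

universe u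

open CategoryTheory CategoryTheory.Limits AlgebraicGeometry TopologicalSpace Opposite FSch
open FModLib (MSec RSec oK piSec)
open FRpushLib (pre)
open FRpushCmplLib (cφ)

noncomputable section

namespace FKillLib

variable {X Z : Scheme.{u}} [IsNoetherian X] [X.IsSeparated] (f : Z ⟶ X) [IsProper f] (𝓘 : X.IdealSheafData)
  (𝓚 : Z.IdealSheafData) (h𝓚 : 𝓚 = 𝓘.comap f) (hpc : PowCompat f 𝓚 𝓘) (hX : (completionAlong X 𝓘).IsFormal)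
  (hZ : (completionAlong Z 𝓚).IsFormal) (𝔉 : ModF (completionAlong X 𝓘) hX)
  (h𝔉 : IsCohF _ hX 𝔉) {W : X.Opens} (hW : IsAffineOpen W)

/-- An affine open over the open. -/
abbrev AffIn (W : X.Opens) : Type u := {U : Z.Opens // IsAffineOpen U ∧ U ≤ f ⁻¹ᵁ W}

theorem isPushout_Uc (U : AffIn f W) :
    IsPushout (f.appLE W U.1 U.2.2) ((jS 𝓘 hX hW).appLE W ⊤ (le_jS 𝓘 hX hW))
      ((pullback.fst f (jS 𝓘 hX hW)).appLE U.1 (Uc f 𝓘 hX hW U.1) le_rfl)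
      ((pullback.snd f (jS 𝓘 hX hW)).appLE ⊤ (Uc f 𝓘 hX hW U.1) le_top) :=
  (isIso_pushoutSection_iff (IsPullback.of_hasPullback f (jS 𝓘 hX hW)) (le_jS 𝓘 hX hW) U.2.2
    (UY := Uc f 𝓘 hX hW U.1) (by simp)).1
    (isIso_pushoutSection_of_isAffineOpen _ (le_jS 𝓘 hX hW) U.2.2 (by simp) hW (isAffineOpen_top _) U.2.1)

/-- Maps out of the scalars upstairs agree when they do on both factors. -/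
theorem sig_ext (U : AffIn f W) {T : CommRingCat.{u}} (s s' : Γ(Zc f 𝓘 hX hW, Uc f 𝓘 hX hW U.1) ⟶ T)
    (h1 : ∀ b, s ((pullback.fst f (jS 𝓘 hX hW)).appLE U.1 (Uc f 𝓘 hX hW U.1) le_rfl b) =
      s' ((pullback.fst f (jS 𝓘 hX hW)).appLE U.1 (Uc f 𝓘 hX hW U.1) le_rfl b))
    (h2 : ∀ r, s (alphaR f 𝓘 hX hW (Uc f 𝓘 hX hW U.1) r) = s' (alphaR f 𝓘 hX hW (Uc f 𝓘 hX hW U.1) r)) : s = s' := by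
  refine (isPushout_Uc f 𝓘 hX hW U).hom_ext (CommRingCat.hom_ext (RingHom.ext h1))
    (CommRingCat.hom_ext (RingHom.ext fun r => ?_))
  have e : (pullback.snd f (jS 𝓘 hX hW)).appLE ⊤ (Uc f 𝓘 hX hW U.1) le_top r =
      alphaR f 𝓘 hX hW (Uc f 𝓘 hX hW U.1) ((Scheme.ΓSpecIso (R₀ 𝓘 hX W)).hom r) :=
    (congrArg ((pullback.snd f (jS 𝓘 hX hW)).appLE ⊤ (Uc f 𝓘 hX hW U.1) le_top)
      (Iso.hom_inv_id_apply (Scheme.ΓSpecIso (R₀ 𝓘 hX W)) r)).symm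
  exact (congrArg s e).trans ((h2 _).trans (congrArg s' e).symm)

/-- The scalars to a level. -/
def sig (U : AffIn f W) (k : ℕ) : Γ(Zc f 𝓘 hX hW, Uc f 𝓘 hX hW U.1) →+*
    Γ((completionAlong Z 𝓚).X k, (completionAlong Z 𝓚).lvU hZ k (Vz 𝓚 U.1)) :=
  (exists_Psi f 𝓘 𝓚 h𝓚 hpc hX hZ 𝔉 h𝔉 hW U.2.1 U.2.2 k).choose

/-- The reduction to a level. -/
def Psi (U : AffIn f W) (k : ℕ) : Γ(Nc f 𝓘 hX 𝔉 hW, Uc f 𝓘 hX hW U.1) →+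
    Γ(Lk f 𝓘 𝓚 hpc hX 𝔉 k, (completionAlong Z 𝓚).lvU hZ k (Vz 𝓚 U.1)) :=
  (exists_Psi f 𝓘 𝓚 h𝓚 hpc hX hZ 𝔉 h𝔉 hW U.2.1 U.2.2 k).choose_spec.choose

theorem Psi_spec (U : AffIn f W) (k : ℕ) :
    let σ := sig f 𝓘 𝓚 h𝓚 hpc hX hZ 𝔉 h𝔉 hW U k
    let Ψ := Psi f 𝓘 𝓚 h𝓚 hpc hX hZ 𝔉 h𝔉 hW U k
    (∀ b, σ ((pullback.fst f (jS 𝓘 hX hW)).appLE U.1 (Uc f 𝓘 hX hW U.1) le_rfl b) =
        (completionToX Z 𝓚 k).appLE U.1 _ (FRpushCmplLib.lvU_pre Z 𝓚 hZ U.1 k).ge b) ∧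
      (∀ r, σ (alphaR f 𝓘 hX hW (Uc f 𝓘 hX hW U.1) r) = ((cφ f 𝓘 𝓚 hpc : Hom _ _).app k).appLE _ _
        (lvU_le_of_le f 𝓘 𝓚 hpc hX hZ U.2.2 k) (oK hX k (Vx 𝓘 W) r)) ∧
      (∀ s m, Ψ (s • m) = σ s • Ψ m) ∧
      (∀ x, Ψ (psiU f 𝓘 hX 𝔉 hW (Uc f 𝓘 hX hW U.1) x) =
        qS f 𝓘 𝓚 hpc hX hZ 𝔉 U.2.2 k (piSec hX 𝔉 k (Vx 𝓘 W) x)) ∧
      Function.Surjective Ψ ∧
      ∀ m, Ψ m = 0 ↔ m ∈ (((𝓘.ideal ⟨W, hW⟩ ^ (k + 1)).map (c₀ 𝓘 hX W).hom).map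
          (alphaR f 𝓘 hX hW (Uc f 𝓘 hX hW U.1)) • ⊤ :
        Submodule Γ(Zc f 𝓘 hX hW, Uc f 𝓘 hX hW U.1) Γ(Nc f 𝓘 hX 𝔉 hW, Uc f 𝓘 hX hW U.1)) :=
  (exists_Psi f 𝓘 𝓚 h𝓚 hpc hX hZ 𝔉 h𝔉 hW U.2.1 U.2.2 k).choose_spec.choose_spec

theorem Vz_mono {U₁ U₂ : Z.Opens} (h : U₁ ≤ U₂) (k : ℕ) :
    (completionAlong Z 𝓚).lvU hZ k (Vz 𝓚 U₁) ≤ (completionAlong Z 𝓚).lvU hZ k (Vz 𝓚 U₂) :=
  (Opens.map ((completionAlong Z 𝓚).gInv hZ k)).monotone ((completionToX Z 𝓚 0).preimage_mono h)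

theorem isAffine_Uc (U : AffIn f W) : IsAffineOpen (Uc f 𝓘 hX hW U.1) :=
  haveI := isAffineHom_jS 𝓘 hX hW
  haveI : IsAffineHom (pullback.fst f (jS 𝓘 hX hW)) := MorphismProperty.pullback_fst _ _ inferInstance
  U.2.1.preimage (pullback.fst f (jS 𝓘 hX hW))

include h𝓚 h𝔉 in
/-- **Reductions are compatible with restriction.** -/
theorem Psi_res {U₁ U₂ : AffIn f W} (h : U₁.1 ≤ U₂.1) (k : ℕ) (m : Γ(Nc f 𝓘 hX 𝔉 hW, Uc f 𝓘 hX hW U₂.1)) :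
    Psi f 𝓘 𝓚 h𝓚 hpc hX hZ 𝔉 h𝔉 hW U₁ k
        ((Nc f 𝓘 hX 𝔉 hW).presheaf.map (homOfLE ((pullback.fst f (jS 𝓘 hX hW)).preimage_mono h)).op m) =
      (Lk f 𝓘 𝓚 hpc hX 𝔉 k).presheaf.map (homOfLE (Vz_mono 𝓚 hZ h k)).op
        (Psi f 𝓘 𝓚 h𝓚 hpc hX hZ 𝔉 h𝔉 hW U₂ k m) := by
  obtain ⟨a1, a2, a3, a4, -, -⟩ := Psi_spec f 𝓘 𝓚 h𝓚 hpc hX hZ 𝔉 h𝔉 hW U₁ k
  obtain ⟨b1, b2, b3, b4, -, -⟩ := Psi_spec f 𝓘 𝓚 h𝓚 hpc hX hZ 𝔉 h𝔉 hW U₂ k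
  let hle := (pullback.fst f (jS 𝓘 hX hW)).preimage_mono h
  let ρ := (Zc f 𝓘 hX hW).presheaf.map (homOfLE hle).op
  have hσ : ρ ≫ CommRingCat.ofHom (sig f 𝓘 𝓚 h𝓚 hpc hX hZ 𝔉 h𝔉 hW U₁ k) =
      CommRingCat.ofHom (sig f 𝓘 𝓚 h𝓚 hpc hX hZ 𝔉 h𝔉 hW U₂ k) ≫
        ((completionAlong Z 𝓚).X k).presheaf.map (homOfLE (Vz_mono 𝓚 hZ h k)).op := by
    refine sig_ext f 𝓘 hX hW U₂ _ _ (fun b => ?_) fun r => ?_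
    · show sig f 𝓘 𝓚 h𝓚 hpc hX hZ 𝔉 h𝔉 hW U₁ k (ρ _) = ((completionAlong Z 𝓚).X k).presheaf.map _ (sig f 𝓘 𝓚 h𝓚 hpc hX hZ 𝔉 h𝔉 hW U₂ k _)
      rw [b1]
      have e : (pullback.fst f (jS 𝓘 hX hW)).appLE U₂.1 (Uc f 𝓘 hX hW U₂.1) le_rfl ≫ ρ =
          Z.presheaf.map (homOfLE h).op ≫ (pullback.fst f (jS 𝓘 hX hW)).appLE U₁.1 (Uc f 𝓘 hX hW U₁.1) le_rfl := by
        rw [Scheme.Hom.appLE_map, Scheme.Hom.map_appLE]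
      refine (congrArg (sig f 𝓘 𝓚 h𝓚 hpc hX hZ 𝔉 h𝔉 hW U₁ k) (congr($e b))).trans ?_
      refine (a1 _).trans ?_
      have e2 : Z.presheaf.map (homOfLE h).op ≫
            (completionToX Z 𝓚 k).appLE U₁.1 _ (FRpushCmplLib.lvU_pre Z 𝓚 hZ U₁.1 k).ge =
          (completionToX Z 𝓚 k).appLE U₂.1 _ (FRpushCmplLib.lvU_pre Z 𝓚 hZ U₂.1 k).ge ≫
            ((completionAlong Z 𝓚).X k).presheaf.map (homOfLE (Vz_mono 𝓚 hZ h k)).op := by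
        rw [Scheme.Hom.map_appLE, Scheme.Hom.appLE_map]
      exact congr($e2 b)
    · show sig f 𝓘 𝓚 h𝓚 hpc hX hZ 𝔉 h𝔉 hW U₁ k (ρ _) = ((completionAlong Z 𝓚).X k).presheaf.map _ (sig f 𝓘 𝓚 h𝓚 hpc hX hZ 𝔉 h𝔉 hW U₂ k _)
      rw [b2]
      have e : ρ (alphaR f 𝓘 hX hW (Uc f 𝓘 hX hW U₂.1) r) = alphaR f 𝓘 hX hW (Uc f 𝓘 hX hW U₁.1) r :=
        congr($(Scheme.Hom.appLE_map (pullback.snd f (jS 𝓘 hX hW)) (le_top : Uc f 𝓘 hX hW U₂.1 ≤ _) (homOfLE hle).op)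
          ((Scheme.ΓSpecIso (R₀ 𝓘 hX W)).inv r))
      rw [e, a2]
      exact (congr($(Scheme.Hom.appLE_map ((cφ f 𝓘 𝓚 hpc : Hom _ _).app k) (lvU_le_of_le f 𝓘 𝓚 hpc hX hZ U₂.2.2 k)
        (homOfLE (Vz_mono 𝓚 hZ h k)).op) (oK hX k (Vx 𝓘 W) r))).symm
  let G : Γ(Nc f 𝓘 hX 𝔉 hW, Uc f 𝓘 hX hW U₂.1) →+ _ :=
    (Psi f 𝓘 𝓚 h𝓚 hpc hX hZ 𝔉 h𝔉 hW U₁ k).comp ((Nc f 𝓘 hX 𝔉 hW).presheaf.map (homOfLE hle).op).hom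
  let G' : Γ(Nc f 𝓘 hX 𝔉 hW, Uc f 𝓘 hX hW U₂.1) →+ _ :=
    ((Lk f 𝓘 𝓚 hpc hX 𝔉 k).presheaf.map (homOfLE (Vz_mono 𝓚 hZ h k)).op).hom.comp
      (Psi f 𝓘 𝓚 h𝓚 hpc hX hZ 𝔉 h𝔉 hW U₂ k)
  have key : G = G' := by
    refine (semiBC_psiU f 𝓘 hX 𝔉 hW (isAffine_Uc f 𝓘 hX hW U₂)).ext
      ((sig f 𝓘 𝓚 h𝓚 hpc hX hZ 𝔉 h𝔉 hW U₁ k).comp ρ.hom) G G' (fun s n => ?_) (fun s n => ?_) fun x => ?_
    · exact (congrArg (Psi f 𝓘 𝓚 h𝓚 hpc hX hZ 𝔉 h𝔉 hW U₁ k) (Scheme.Modules.map_smul _ (homOfLE hle) s n)).trans (a3 _ _)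
    · refine (congrArg ((Lk f 𝓘 𝓚 hpc hX 𝔉 k).presheaf.map (homOfLE (Vz_mono 𝓚 hZ h k)).op) (b3 s n)).trans ?_
      refine (Scheme.Modules.map_smul _ (homOfLE (Vz_mono 𝓚 hZ h k)) _ _).trans ?_
      exact congrArg (fun z => z • G' n) (congr($hσ s)).symm
    · refine (congrArg (Psi f 𝓘 𝓚 h𝓚 hpc hX hZ 𝔉 h𝔉 hW U₁ k) (psiU_res f 𝓘 hX 𝔉 hW hle x)).trans ((a4 x).trans ?_)
      refine Eq.trans ?_ (congrArg ((Lk f 𝓘 𝓚 hpc hX 𝔉 k).presheaf.map (homOfLE (Vz_mono 𝓚 hZ h k)).op) (b4 x)).symm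
      exact (QCohLib.map_map' _ (homOfLE (Vz_mono 𝓚 hZ h k)) (homOfLE (lvU_le_of_le f 𝓘 𝓚 hpc hX hZ U₂.2.2 k)) _).symm
  exact DFunLike.congr_fun key m

/-- The system of the levels of the inverse image. -/
abbrev Lsys : ModSys (completionAlong Z 𝓚) :=
  ModSys.pullback (cφ f 𝓘 𝓚 hpc) (FCohLib.levSys (hlocC 𝓘 hX) 𝔉)

theorem lvT_piSec (k : ℕ) (V : ((completionAlong X 𝓘).X 0).Opens) (x : MSec 𝔉 V) :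
    FCohLib.lvT hX (FCohLib.levSys (hlocC 𝓘 hX) 𝔉).F (FCohLib.levSys (hlocC 𝓘 hX) 𝔉).toPush k V
      (piSec hX 𝔉 (k + 1) V x) = piSec hX 𝔉 k V x :=
  (congrArg (FCohLib.lvT hX (FCohLib.levSys (hlocC 𝓘 hX) 𝔉).F (FCohLib.levSys (hlocC 𝓘 hX) 𝔉).toPush k V)
    (FCohLib.rp_etaReal (hlocC 𝓘 hX) 𝔉 (k + 1) V x)).symm.trans
    ((FCohLib.rp_succ hX _ _ k V _).trans (FCohLib.rp_etaReal (hlocC 𝓘 hX) 𝔉 k V x))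

include h𝓚 h𝔉 in
/-- **Reductions are compatible with the transition maps.** -/
theorem Psi_succ (U : AffIn f W) (k : ℕ) (m : Γ(Nc f 𝓘 hX 𝔉 hW, Uc f 𝓘 hX hW U.1)) :
    FCohLib.lvT hZ (Lsys f 𝓘 𝓚 hpc hX 𝔉).F (Lsys f 𝓘 𝓚 hpc hX 𝔉).toPush k (Vz 𝓚 U.1)
        (Psi f 𝓘 𝓚 h𝓚 hpc hX hZ 𝔉 h𝔉 hW U (k + 1) m) =
      Psi f 𝓘 𝓚 h𝓚 hpc hX hZ 𝔉 h𝔉 hW U k m := by
  obtain ⟨a1, a2, a3, a4, -, -⟩ := Psi_spec f 𝓘 𝓚 h𝓚 hpc hX hZ 𝔉 h𝔉 hW U (k + 1)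
  obtain ⟨b1, b2, b3, b4, -, -⟩ := Psi_spec f 𝓘 𝓚 h𝓚 hpc hX hZ 𝔉 h𝔉 hW U k
  have key2 : ∀ {S T : Scheme.{u}} (a b : S ⟶ T) (O : T.Opens) (V : S.Opens) (ha : V ≤ a ⁻¹ᵁ O) (hb : V ≤ b ⁻¹ᵁ O),
      a = b → a.appLE O V ha = b.appLE O V hb := by
    rintro S T a b O V ha hb rfl
    rfl
  have hσ : CommRingCat.ofHom (sig f 𝓘 𝓚 h𝓚 hpc hX hZ 𝔉 h𝔉 hW U (k + 1)) ≫
      ((completionAlong Z 𝓚).levelMap hZ k).hom.app (op (Vz 𝓚 U.1)) =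
      CommRingCat.ofHom (sig f 𝓘 𝓚 h𝓚 hpc hX hZ 𝔉 h𝔉 hW U k) := by
    refine sig_ext f 𝓘 hX hW U _ _ (fun b => ?_) fun r => ?_
    · show ((completionAlong Z 𝓚).levelMap hZ k).hom.app _ (sig f 𝓘 𝓚 h𝓚 hpc hX hZ 𝔉 h𝔉 hW U (k + 1) _) = sig f 𝓘 𝓚 h𝓚 hpc hX hZ 𝔉 h𝔉 hW U k _
      rw [a1, b1]
      have e2 : (completionToX Z 𝓚 (k + 1)).appLE U.1 _ (FRpushCmplLib.lvU_pre Z 𝓚 hZ U.1 (k + 1)).ge ≫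
            ((completionAlong Z 𝓚).ι k).appLE _ _ ((completionAlong Z 𝓚).lvU_le hZ k (Vz 𝓚 U.1)) =
          (completionToX Z 𝓚 k).appLE U.1 _ (FRpushCmplLib.lvU_pre Z 𝓚 hZ U.1 k).ge :=
        (Scheme.Hom.appLE_comp_appLE ((completionAlong Z 𝓚).ι k) (completionToX Z 𝓚 (k + 1)) U.1 _ _ _
          ((completionAlong Z 𝓚).lvU_le hZ k (Vz 𝓚 U.1))).trans (key2 _ _ _ _ _ _ (completionToX_comm Z 𝓚 k))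
      exact congr($e2 b)
    · show ((completionAlong Z 𝓚).levelMap hZ k).hom.app _ (sig f 𝓘 𝓚 h𝓚 hpc hX hZ 𝔉 h𝔉 hW U (k + 1) _) = sig f 𝓘 𝓚 h𝓚 hpc hX hZ 𝔉 h𝔉 hW U k _
      rw [a2, b2]
      have e0 : oK hX k (Vx 𝓘 W) r = ((completionAlong X 𝓘).ι k).appLE _ _ ((completionAlong X 𝓘).lvU_le hX k (Vx 𝓘 W))
          (oK hX (k + 1) (Vx 𝓘 W) r) := (FModLib.oProj_succ hX (Vx 𝓘 W) k r).symm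
      rw [e0]
      have e2 : ((cφ f 𝓘 𝓚 hpc : Hom _ _).app (k + 1)).appLE _ _ (lvU_le_of_le f 𝓘 𝓚 hpc hX hZ U.2.2 (k + 1)) ≫
            ((completionAlong Z 𝓚).ι k).appLE _ _ ((completionAlong Z 𝓚).lvU_le hZ k (Vz 𝓚 U.1)) =
          ((completionAlong X 𝓘).ι k).appLE _ _ ((completionAlong X 𝓘).lvU_le hX k (Vx 𝓘 W)) ≫
            ((cφ f 𝓘 𝓚 hpc : Hom _ _).app k).appLE _ _ (lvU_le_of_le f 𝓘 𝓚 hpc hX hZ U.2.2 k) := (Scheme.Hom.appLE_comp_appLE ((completionAlong Z 𝓚).ι k) ((cφ f 𝓘 𝓚 hpc : Hom _ _).app (k + 1)) _ _ _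
        (lvU_le_of_le f 𝓘 𝓚 hpc hX hZ U.2.2 (k + 1)) ((completionAlong Z 𝓚).lvU_le hZ k (Vz 𝓚 U.1))).trans
        ((key2 _ _ _ _ _ _ (Hom.comm (cφ f 𝓘 𝓚 hpc) k).symm).trans
          (Scheme.Hom.appLE_comp_appLE ((cφ f 𝓘 𝓚 hpc : Hom _ _).app k) ((completionAlong X 𝓘).ι k) _ _ _
            ((completionAlong X 𝓘).lvU_le hX k (Vx 𝓘 W)) (lvU_le_of_le f 𝓘 𝓚 hpc hX hZ U.2.2 k)).symm)
      exact congr($e2 (oK hX (k + 1) (Vx 𝓘 W) r))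
  let T := FCohLib.lvT hZ (Lsys f 𝓘 𝓚 hpc hX 𝔉).F (Lsys f 𝓘 𝓚 hpc hX 𝔉).toPush k (Vz 𝓚 U.1)
  let G : Γ(Nc f 𝓘 hX 𝔉 hW, Uc f 𝓘 hX hW U.1) →+ Γ(Lk f 𝓘 𝓚 hpc hX 𝔉 k, (completionAlong Z 𝓚).lvU hZ k (Vz 𝓚 U.1)) :=
    AddMonoidHom.mk' (fun n => T (Psi f 𝓘 𝓚 h𝓚 hpc hX hZ 𝔉 h𝔉 hW U (k + 1) n)) fun a b =>
      (congrArg T (map_add _ a b)).trans (FCohLib.lvT_add hZ _ _ k _ _ _)
  have key : G = Psi f 𝓘 𝓚 h𝓚 hpc hX hZ 𝔉 h𝔉 hW U k := by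
    refine (semiBC_psiU f 𝓘 hX 𝔉 hW (isAffine_Uc f 𝓘 hX hW U)).ext
      (sig f 𝓘 𝓚 h𝓚 hpc hX hZ 𝔉 h𝔉 hW U k) _ _ (fun s n => ?_) b3 fun x => ?_
    · refine (congrArg T (a3 s n)).trans ((FCohLib.lvT_smul hZ _ _ k _ _ _).trans ?_)
      exact congrArg (fun z => z • G n) (congr($hσ s))
    · refine (congrArg T (a4 x)).trans (Eq.trans ?_ (b4 x).symm)
      refine (FCohLib.lvT_pullback (cφ f 𝓘 𝓚 hpc) hZ hX (FCohLib.levSys (hlocC 𝓘 hX) 𝔉) k (Vz 𝓚 U.1) (Vx 𝓘 W)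
        (lvU_le_of_le f 𝓘 𝓚 hpc hX hZ U.2.2 (k + 1)) (lvU_le_of_le f 𝓘 𝓚 hpc hX hZ U.2.2 k) _).trans ?_
      exact congrArg (qS f 𝓘 𝓚 hpc hX hZ 𝔉 U.2.2 k) (lvT_piSec 𝓘 hX 𝔉 k _ x)
  exact DFunLike.congr_fun key m

end FKillLib

end
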