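import Groth.Agent.FKillLib.Base
import Groth.Agent.FRpushCmplLib.FinalBase
import Groth.Agent.FCohLib.Surj
import Groth.Agent.FCohLib.Closure

/-!
# The levels of an inverse image, over an affine open, as reductions of a coherent module
-/

set_option autoImplicit false
set_option linter.style.haveILetI false
set_option linter.unusedSectionVars false
set_option maxHeartbeats 800000
set_option synthInstance.maxHeartbeats 80000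

universe u

open CategoryTheory CategoryTheory.Limits AlgebraicGeometry TopologicalSpace Opposite FSch
open FModLib (MSec RSec oK piSec lc)
open FRpushLib (pre)
open FRpushCmplLib (cS cφ)

noncomputable section

namespace FKillLib

variable {X Z : Scheme.{u}} [IsNoetherian X] [X.IsSeparated] (f : Z ⟶ X) [IsProper f] (𝓘 : X.IdealSheafData)
  (𝓚 : Z.IdealSheafData) (h𝓚 : 𝓚 = 𝓘.comap f) (hpc : PowCompat f 𝓚 𝓘) (hX : (completionAlong X 𝓘).IsFormal)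
  (hZ : (completionAlong Z 𝓚).IsFormal) (𝔉 : ModF (completionAlong X 𝓘) hX)
  (h𝔉 : IsCohF _ hX 𝔉) {W : X.Opens} (hW : IsAffineOpen W)

theorem hlocC {X : Scheme.{u}} [IsLocallyNoetherian X] (𝓘 : X.IdealSheafData) (hX : (completionAlong X 𝓘).IsFormal) :
    (completionAlong X 𝓘).IsLocNoethFormal :=
  ⟨hX, FComplLib.completionAlong_isAdic X 𝓘, (FComplLib.completionAlong_isLocNoethFormal X 𝓘).2.2⟩

/-- The open of the completion over an open. -/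
abbrev Vx (W : X.Opens) : ((completionAlong X 𝓘).X 0).Opens := pre (completionToX X 𝓘 0).base W

/-- Its ring. -/
abbrev R₀ (W : X.Opens) : CommRingCat.{u} := ((completionAlong X 𝓘).Osh hX).obj.obj (op (Vx 𝓘 W))

/-- The canonical map to it. -/
abbrev c₀ (W : X.Opens) : Γ(X, W) ⟶ R₀ 𝓘 hX W :=
  (schSharp (completionAlong X 𝓘) hX (completionToX X 𝓘) (completionToX_comm X 𝓘)).hom.app (op W)

/-- The spectrum of the completed ring, over the scheme. -/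
abbrev jS : Spec (R₀ 𝓘 hX W) ⟶ X := Spec.map (c₀ 𝓘 hX W) ≫ hW.fromSpec

/-- The scheme over the spectrum. -/
abbrev Zc : Scheme.{u} := pullback f (jS 𝓘 hX hW)

/-- The module of sections. -/
abbrev Mod₀ (W : X.Opens) : ModuleCat.{u} (R₀ 𝓘 hX W) := ModuleCat.of (R₀ 𝓘 hX W) (MSec 𝔉 (Vx 𝓘 W))

/-- Its inverse image. -/
abbrev Nc : (Zc f 𝓘 hX hW).Modules :=
  (Scheme.Modules.pullback (pullback.snd f (jS 𝓘 hX hW))).obj (tilde (Mod₀ 𝓘 hX 𝔉 W))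

/-- An open upstairs. -/
abbrev Uc (U : Z.Opens) : (Zc f 𝓘 hX hW).Opens := pullback.fst f (jS 𝓘 hX hW) ⁻¹ᵁ U

/-- Scalars upstairs. -/
def alphaR (U' : (Zc f 𝓘 hX hW).Opens) : R₀ 𝓘 hX W →+* Γ(Zc f 𝓘 hX hW, U') :=
  ((pullback.snd f (jS 𝓘 hX hW)).appLE ⊤ U' le_top).hom.comp (Scheme.ΓSpecIso (R₀ 𝓘 hX W)).inv.hom

/-- Sections of the module upstairs. -/
def psiU (U' : (Zc f 𝓘 hX hW).Opens) : MSec 𝔉 (Vx 𝓘 W) →+ Γ(Nc f 𝓘 hX 𝔉 hW, U') :=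
  (KFlatLib.puSecLE (pullback.snd f (jS 𝓘 hX hW)) (tilde (Mod₀ 𝓘 hX 𝔉 W)) (U := ⊤) (U' := U') le_top).comp
    (topSec (Mod₀ 𝓘 hX 𝔉 W))

theorem psiU_res {U₁ U₂ : (Zc f 𝓘 hX hW).Opens} (h : U₁ ≤ U₂) (x : MSec 𝔉 (Vx 𝓘 W)) :
    (Nc f 𝓘 hX 𝔉 hW).presheaf.map (homOfLE h).op (psiU f 𝓘 hX 𝔉 hW U₂ x) = psiU f 𝓘 hX 𝔉 hW U₁ x := by
  exact QCohLib.map_map' _ (homOfLE h) (homOfLE (le_top : U₂ ≤ _)) _

theorem semiBC_psiU {U' : (Zc f 𝓘 hX hW).Opens} (hU' : IsAffineOpen U') :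
    SemiBC (alphaR f 𝓘 hX hW U') (psiU f 𝓘 hX 𝔉 hW U') :=
  SemiBC.comp_equiv (semiBC_puSec (pullback.snd f (jS 𝓘 hX hW)) (tilde (Mod₀ 𝓘 hX 𝔉 W)) (isAffineOpen_top _) hU' le_top)
    (Scheme.ΓSpecIso (R₀ 𝓘 hX W)).inv.hom (ConcreteCategory.bijective_of_isIso (Scheme.ΓSpecIso (R₀ 𝓘 hX W)).inv).2
    (topSec (Mod₀ 𝓘 hX 𝔉 W)) (topSec_bijective _) (topSec_smul _)

/-- The open of the completion of the source over an open. -/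
abbrev Vz (U : Z.Opens) : ((completionAlong Z 𝓚).X 0).Opens := pre (completionToX Z 𝓚 0).base U

/-- A level of the inverse image. -/
abbrev Lk (k : ℕ) : ((completionAlong Z 𝓚).X k).Modules :=
  (Scheme.Modules.pullback ((cφ f 𝓘 𝓚 hpc : Hom _ _).app k)).obj (FModLib.lev hX 𝔉 k)

theorem lvU_le_of_le {U : Z.Opens} (hUW : U ≤ f ⁻¹ᵁ W) (k : ℕ) :
    (completionAlong Z 𝓚).lvU hZ k (Vz 𝓚 U) ≤
      (cφ f 𝓘 𝓚 hpc : Hom _ _).app k ⁻¹ᵁ (completionAlong X 𝓘).lvU hX k (Vx 𝓘 W) :=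
  ((Opens.map ((completionAlong Z 𝓚).gInv hZ k)).monotone
    (((completionToX Z 𝓚 0).preimage_mono hUW).trans (FRpushCmplLib.pre_eq f 𝓘 𝓚 hpc W).ge)).trans
    (Hom.lvU_preimage (cφ f 𝓘 𝓚 hpc) hZ hX k (Vx 𝓘 W)).ge

/-- Sections of a level to a level of the inverse image. -/
abbrev qS {U : Z.Opens} (hUW : U ≤ f ⁻¹ᵁ W) (k : ℕ) :
    MSec (FModLib.lev hX 𝔉 k) ((completionAlong X 𝓘).lvU hX k (Vx 𝓘 W)) →+
      Γ(Lk f 𝓘 𝓚 hpc hX 𝔉 k, (completionAlong Z 𝓚).lvU hZ k (Vz 𝓚 U)) :=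
  KFlatLib.puSecLE ((cφ f 𝓘 𝓚 hpc : Hom _ _).app k) (FModLib.lev hX 𝔉 k) (lvU_le_of_le f 𝓘 𝓚 hpc hX hZ hUW k)

include h𝔉 hW in
/-- Sections go onto the sections of a level, with kernel the multiples of the kernel of the scalars. -/
theorem piSec_surj_ker (k : ℕ) :
    Function.Surjective (piSec hX 𝔉 k (Vx 𝓘 W)) ∧
      ∀ x, piSec hX 𝔉 k (Vx 𝓘 W) x = 0 →
        x ∈ (RingHom.ker (((completionAlong X 𝓘).OshProj hX k).hom.app (op (Vx 𝓘 W))).hom • ⊤ :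
          Submodule (R₀ 𝓘 hX W) (MSec 𝔉 (Vx 𝓘 W))) := by
  have hV := FRpushCmplLib.isAffine_pre 𝓘 hW
  let hloc := hlocC 𝓘 hX
  obtain ⟨ι, κ, _, _, ⟨D⟩⟩ := FCohLib.exists_presOn hloc h𝔉 hV
  haveI : Coh.IsQCoh (FModLib.lev hloc.1 𝔉 k) := (FModLib.isCoh_lev hloc.1 𝔉 h𝔉 k).1
  refine ⟨fun m => ?_, fun x hx => ?_⟩
  · obtain ⟨b, hb⟩ := FModLib.exists_gen hloc 𝔉 D hV le_rfl k m
    exact ⟨_, hb⟩
  obtain ⟨b, rfl⟩ := FCohLib.exists_comb hloc h𝔉 D hV le_rfl x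
  obtain ⟨d, hd⟩ := FModLib.exists_ker hloc 𝔉 D hV le_rfl k b hx
  let c : ι → R₀ 𝓘 hX W := fun i => b i - ∑ j, d j * FModLib.rres ((completionAlong X 𝓘).Osh hX) le_rfl (D.r j i)
  have hc : lc 𝔉 le_rfl D.e c = lc 𝔉 le_rfl D.e b := by
    refine Eq.trans (FCohLib.lc_add_relations 𝔉 le_rfl D.e D.r D.pres.rel c d).symm (congrArg (lc 𝔉 le_rfl D.e) ?_)
    exact funext fun i => sub_add_cancel _ _
  rw [← hc]
  refine Submodule.sum_mem _ fun i _ => Submodule.smul_mem_smul ?_ trivial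
  exact RingHom.mem_ker.2 ((map_sub _ _ _).trans (sub_eq_zero.2 (hd i)))

include hW in
/-- The ideal of the levels on the completed ring is the extended one. -/
theorem oK_ker_iff (k : ℕ) (r : R₀ 𝓘 hX W) :
    oK hX k (Vx 𝓘 W) r = 0 ↔ r ∈ (𝓘.ideal ⟨W, hW⟩ ^ (k + 1)).map (c₀ 𝓘 hX W).hom := by
  have hV := FRpushCmplLib.isAffine_pre 𝓘 hW
  let hloc := hlocC 𝓘 hX
  obtain ⟨I', hN, hI'⟩ := FCohLib.exists_adic hloc hV
  have key : (𝓘.ideal ⟨W, hW⟩).map (c₀ 𝓘 hX W).hom = I' := by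
    refine map_eq_of_le_sup_sq _ _ I' (fun x hx => ?_) ?_ fun x hx => ?_
    · refine FCohLib.ker_oK_le_jacobson hloc hV (RingHom.mem_ker.2 ((hI' 0 x).2 ?_))
      rwa [zero_add, pow_one]
    · refine Ideal.map_le_iff_le_comap.2 fun a ha => ?_
      have := (hI' 0 _).1 ((FRpushCmplLib.cS_kernel X 𝓘 hX hW 0 a).2 (by rwa [zero_add, pow_one]))
      rwa [zero_add, pow_one] at this
    · obtain ⟨a, ha⟩ := FRpushCmplLib.cS_surjective X 𝓘 hX hW 1 x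
      have h2 : x - cS X 𝓘 hX W a ∈ I' ^ 2 := (hI' 1 _).1 ((map_sub _ _ _).trans (sub_eq_zero.2 ha.symm))
      have hcI : cS X 𝓘 hX W a ∈ I' := by
        have := sub_mem hx (Ideal.pow_le_self two_ne_zero h2)
        rwa [sub_sub_cancel] at this
      have ha' : a ∈ 𝓘.ideal ⟨W, hW⟩ := by
        have := (FRpushCmplLib.cS_kernel X 𝓘 hX hW 0 a).1 ((hI' 0 _).2 (by rwa [zero_add, pow_one]))
        rwa [zero_add, pow_one] at this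
      exact Submodule.mem_sup.2 ⟨cS X 𝓘 hX W a, Ideal.mem_map_of_mem _ ha', _, h2, add_sub_cancel _ _⟩
  rw [Ideal.map_pow, key]
  exact hI' k r

include h𝓚 hW in
/-- The scalars on a level of the source over an affine open. -/
theorem level_scalars {U : Z.Opens} (hU : IsAffineOpen U) (hUW : U ≤ f ⁻¹ᵁ W) (k : ℕ) :
    let σB := (completionToX Z 𝓚 k).appLE U _ (FRpushCmplLib.lvU_pre Z 𝓚 hZ U k).ge
    Function.Surjective σB ∧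
      RingHom.ker σB.hom = (𝓘.ideal ⟨W, hW⟩ ^ (k + 1)).map (f.appLE W U hUW).hom := by
  intro σB
  haveI := FComplLib.isClosedImmersion_completionToX Z 𝓚 k
  have e := FRpushCmplLib.lvU_pre Z 𝓚 hZ U k
  refine ⟨FRpushCmplLib.appLE_surjective_of_eq _ U _ e.ge e ((completionToX Z 𝓚 k).app_surjective U hU), ?_⟩
  refine (FModLib.ker_appLE_of_eq (completionToX Z 𝓚 k) U _ e.ge e).trans ?_
  have e2 : ((𝓚 ^ (k + 1)).subschemeι.ker).ideal ⟨U, hU⟩ = (𝓚 ^ (k + 1)).ideal ⟨U, hU⟩ := by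
    rw [Scheme.IdealSheafData.ker_subschemeι]
  rw [Scheme.Hom.ker_apply] at e2
  exact e2.trans (by rw [FRpushCmplLib.powIdeal, Ideal.map_pow, h𝓚, RGFlatLib.ideal_comap_appLE f 𝓘 hW hU hUW])

theorem scalars_comm {U : Z.Opens} (hUW : U ≤ f ⁻¹ᵁ W) (k : ℕ) :
    f.appLE W U hUW ≫ (completionToX Z 𝓚 k).appLE U _ (FRpushCmplLib.lvU_pre Z 𝓚 hZ U k).ge =
      c₀ 𝓘 hX W ≫ ((completionAlong X 𝓘).OshProj hX k).hom.app (op (Vx 𝓘 W)) ≫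
        ((cφ f 𝓘 𝓚 hpc : Hom _ _).app k).appLE _ _ (lvU_le_of_le f 𝓘 𝓚 hpc hX hZ hUW k) := by
  have h1 : c₀ 𝓘 hX W ≫ ((completionAlong X 𝓘).OshProj hX k).hom.app (op (Vx 𝓘 W)) =
      (completionToX X 𝓘 k).appLE W _ (FRpushCmplLib.lvU_pre X 𝓘 hX W k).ge :=
    CommRingCat.hom_ext (RingHom.ext fun b =>
      FRpushCmplLib.schSharp_app hX (completionToX X 𝓘) (completionToX_comm X 𝓘) k W b)
  rw [← Category.assoc (c₀ 𝓘 hX W), h1]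
  have key : ∀ (a b : (completionAlong Z 𝓚).X k ⟶ X) (V : ((completionAlong Z 𝓚).X k).Opens) (ha : V ≤ a ⁻¹ᵁ W)
      (hb : V ≤ b ⁻¹ᵁ W), a = b → a.appLE W V ha = b.appLE W V hb := by
    rintro a b V ha hb rfl
    rfl
  refine (Scheme.Hom.appLE_comp_appLE (completionToX Z 𝓚 k) f W U _ hUW _).trans
    (Eq.trans ?_ (Scheme.Hom.appLE_comp_appLE ((cφ f 𝓘 𝓚 hpc : Hom _ _).app k) (completionToX X 𝓘 k) W _ _
      (FRpushCmplLib.lvU_pre X 𝓘 hX W k).ge (lvU_le_of_le f 𝓘 𝓚 hpc hX hZ hUW k)).symm)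
  exact key _ _ _ _ _ (FComplLib.completionMap_app_ι f 𝓚 𝓘 hpc k).symm

theorem le_jS : (⊤ : (Spec (R₀ 𝓘 hX W)).Opens) ≤ jS 𝓘 hX hW ⁻¹ᵁ W := by
  rw [Scheme.Hom.comp_preimage, hW.fromSpec_preimage_self]
  exact le_rfl

theorem jS_appLE : (jS 𝓘 hX hW).appLE W ⊤ (le_jS 𝓘 hX hW) = c₀ 𝓘 hX W ≫ (Scheme.ΓSpecIso (R₀ 𝓘 hX W)).inv := by
  have h1 : hW.fromSpec.appLE W ⊤ hW.fromSpec_preimage_self.ge = (Scheme.ΓSpecIso Γ(X, W)).inv := by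
    rw [Scheme.Hom.appLE, hW.fromSpec_app_self, Category.assoc, ← Functor.map_comp]
    exact (congrArg (fun q => (Scheme.ΓSpecIso Γ(X, W)).inv ≫ q)
      ((congrArg (Spec Γ(X, W)).presheaf.map (Subsingleton.elim _ (𝟙 _))).trans ((Spec Γ(X, W)).presheaf.map_id _))).trans
      (Category.comp_id _)
  refine (Scheme.Hom.appLE_comp_appLE (Spec.map (c₀ 𝓘 hX W)) hW.fromSpec W ⊤ ⊤ hW.fromSpec_preimage_self.ge le_rfl).symm.trans ?_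
  rw [h1, Scheme.Hom.appLE]
  refine (congrArg (fun q => (Scheme.ΓSpecIso Γ(X, W)).inv ≫ (Spec.map (c₀ 𝓘 hX W)).app ⊤ ≫ q)
    ((congrArg (Spec (R₀ 𝓘 hX W)).presheaf.map (Subsingleton.elim _ (𝟙 _))).trans
      ((Spec (R₀ 𝓘 hX W)).presheaf.map_id _))).trans ?_
  exact (congrArg (fun q => (Scheme.ΓSpecIso Γ(X, W)).inv ≫ q) (Category.comp_id _)).trans
    (Scheme.ΓSpecIso_inv_naturality (c₀ 𝓘 hX W)).symm

theorem isAffineHom_jS : IsAffineHom (jS 𝓘 hX hW) :=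
  haveI : IsAffineHom (jS 𝓘 hX hW ≫ terminal.from X) := inferInstance
  haveI : IsSeparated (terminal.from X) := (Scheme.isSeparated_iff X).1 inferInstance
  IsAffineHom.of_comp (jS 𝓘 hX hW) (terminal.from X)

include h𝓚 h𝔉 hW in
/-- **The sections of a level of the inverse image, over an affine open, as reductions.** -/
theorem exists_Psi {U : Z.Opens} (hU : IsAffineOpen U) (hUW : U ≤ f ⁻¹ᵁ W) (k : ℕ) :
    ∃ (σ : Γ(Zc f 𝓘 hX hW, Uc f 𝓘 hX hW U) →+* Γ((completionAlong Z 𝓚).X k, (completionAlong Z 𝓚).lvU hZ k (Vz 𝓚 U)))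
      (Ψ : Γ(Nc f 𝓘 hX 𝔉 hW, Uc f 𝓘 hX hW U) →+
        Γ(Lk f 𝓘 𝓚 hpc hX 𝔉 k, (completionAlong Z 𝓚).lvU hZ k (Vz 𝓚 U))),
      (∀ b, σ ((pullback.fst f (jS 𝓘 hX hW)).appLE U (Uc f 𝓘 hX hW U) le_rfl b) =
        (completionToX Z 𝓚 k).appLE U _ (FRpushCmplLib.lvU_pre Z 𝓚 hZ U k).ge b) ∧
      (∀ r, σ (alphaR f 𝓘 hX hW (Uc f 𝓘 hX hW U) r) = ((cφ f 𝓘 𝓚 hpc : Hom _ _).app k).appLE _ _
        (lvU_le_of_le f 𝓘 𝓚 hpc hX hZ hUW k) (oK hX k (Vx 𝓘 W) r)) ∧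
      (∀ s m, Ψ (s • m) = σ s • Ψ m) ∧
      (∀ x, Ψ (psiU f 𝓘 hX 𝔉 hW (Uc f 𝓘 hX hW U) x) = qS f 𝓘 𝓚 hpc hX hZ 𝔉 hUW k (piSec hX 𝔉 k (Vx 𝓘 W) x)) ∧
      Function.Surjective Ψ ∧
      ∀ m, Ψ m = 0 ↔ m ∈ (((𝓘.ideal ⟨W, hW⟩ ^ (k + 1)).map (c₀ 𝓘 hX W).hom).map (alphaR f 𝓘 hX hW (Uc f 𝓘 hX hW U)) • ⊤ :
        Submodule Γ(Zc f 𝓘 hX hW, Uc f 𝓘 hX hW U) Γ(Nc f 𝓘 hX 𝔉 hW, Uc f 𝓘 hX hW U)) := by
  haveI := isAffineHom_jS 𝓘 hX hW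
  haveI : IsAffineHom (pullback.fst f (jS 𝓘 hX hW)) := MorphismProperty.pullback_fst _ _ inferInstance
  have hU' : IsAffineOpen (Uc f 𝓘 hX hW U) := hU.preimage (pullback.fst f (jS 𝓘 hX hW))
  let H := IsPullback.of_hasPullback f (jS 𝓘 hX hW)
  have hP := (isIso_pushoutSection_iff H (le_jS 𝓘 hX hW) hUW (UY := Uc f 𝓘 hX hW U) (by simp)).1
    (isIso_pushoutSection_of_isAffineOpen H (le_jS 𝓘 hX hW) hUW (by simp) hW (isAffineOpen_top _) hU)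
  obtain ⟨hσB, hkB⟩ := level_scalars f 𝓘 𝓚 h𝓚 hZ hW hU hUW k
  let J := 𝓘.ideal ⟨W, hW⟩ ^ (k + 1)
  let e := Scheme.ΓSpecIso (R₀ 𝓘 hX W)
  have hje : (jS 𝓘 hX hW).appLE W ⊤ (le_jS 𝓘 hX hW) = c₀ 𝓘 hX W ≫ e.inv := jS_appLE 𝓘 hX hW
  obtain ⟨σ, h1, h2, hσ, hkσ⟩ := exists_pushout_desc hP
    ((completionToX Z 𝓚 k).appLE U _ (FRpushCmplLib.lvU_pre Z 𝓚 hZ U k).ge)
    (e.hom ≫ ((completionAlong X 𝓘).OshProj hX k).hom.app (op (Vx 𝓘 W)) ≫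
      ((cφ f 𝓘 𝓚 hpc : Hom _ _).app k).appLE _ _ (lvU_le_of_le f 𝓘 𝓚 hpc hX hZ hUW k))
    (by rw [hje, Category.assoc, Iso.inv_hom_id_assoc]; exact scalars_comm f 𝓘 𝓚 hpc hX hZ hUW k)
    hσB J hkB.le (fun x hx => RingHom.mem_ker.1 (hkB.ge (Ideal.mem_map_of_mem _ hx)))
    (fun r => by
      obtain ⟨x, hx⟩ := FRpushCmplLib.cS_surjective X 𝓘 hX hW k (e.hom r)
      refine ⟨x, ?_⟩
      have h0 : e.hom r - c₀ 𝓘 hX W x ∈ J.map (c₀ 𝓘 hX W).hom :=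
        (oK_ker_iff 𝓘 hX hW k _).1 ((map_sub _ _ _).trans (sub_eq_zero.2 hx.symm))
      have h0' := Ideal.mem_map_of_mem e.inv.hom h0
      rw [Ideal.map_map, map_sub, Iso.hom_inv_id_apply] at h0'
      rw [hje]
      exact h0')
  have hσα : ∀ r, σ (alphaR f 𝓘 hX hW (Uc f 𝓘 hX hW U) r) = ((cφ f 𝓘 𝓚 hpc : Hom _ _).app k).appLE _ _
      (lvU_le_of_le f 𝓘 𝓚 hpc hX hZ hUW k) (oK hX k (Vx 𝓘 W) r) := fun r => by
    refine (congr($h2 (e.inv r))).trans ?_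
    exact congrArg (fun z => ((cφ f 𝓘 𝓚 hpc : Hom _ _).app k).appLE _ _ (lvU_le_of_le f 𝓘 𝓚 hpc hX hZ hUW k)
      (oK hX k (Vx 𝓘 W) z)) (Iso.inv_hom_id_apply e r)
  obtain ⟨hps, hpk⟩ := piSec_surj_ker 𝓘 hX 𝔉 h𝔉 hW k
  haveI : Coh.IsQCoh (FModLib.lev hX 𝔉 k) := (FModLib.isCoh_lev hX 𝔉 h𝔉 k).1
  have hq := semiBC_puSec ((cφ f 𝓘 𝓚 hpc : Hom _ _).app k) (FModLib.lev hX 𝔉 k)
    (FModLib.isAffineOpen_lvU hX (FRpushCmplLib.isAffine_pre 𝓘 hW) k)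
    (FModLib.isAffineOpen_lvU hZ (haveI := FComplLib.isClosedImmersion_completionToX Z 𝓚 0
      hU.preimage (completionToX Z 𝓚 0)) k) (lvU_le_of_le f 𝓘 𝓚 hpc hX hZ hUW k)
  obtain ⟨Ψ, hl, hv, hs, hk⟩ := exists_desc (σ := σ.hom) hσ hσα
    (p := AddMonoidHom.mk' (piSec hX 𝔉 k (Vx 𝓘 W))
      fun a b => map_add (((levelMor (completionAlong X 𝓘) hX k).adj.unit.app 𝔉).val.app (op (Vx 𝓘 W))).hom a b)
    (fun r x => FModLib.piSec_smul hX 𝔉 k r x) hps hpk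
    (FModLib.oK_surjective (hlocC 𝓘 hX) (FRpushCmplLib.isAffine_pre 𝓘 hW) k)
    (semiBC_psiU f 𝓘 hX 𝔉 hW hU') hq
  refine ⟨σ.hom, Ψ, fun b => congr($h1 b), hσα, hl, hv, hs, fun m => (hk m).trans ?_⟩
  rw [hkσ, Ideal.map_map]
  have : (f.appLE W U hUW ≫ (pullback.fst f (jS 𝓘 hX hW)).appLE U (Uc f 𝓘 hX hW U) le_rfl).hom =
      (alphaR f 𝓘 hX hW (Uc f 𝓘 hX hW U)).comp (c₀ 𝓘 hX W).hom := by
    refine RingHom.ext fun a => ?_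
    refine (congr($(hP.w) a)).trans ?_
    exact congrArg ((pullback.snd f (jS 𝓘 hX hW)).appLE ⊤ (Uc f 𝓘 hX hW U) le_top) (congr($hje a))
  rw [this]

end FKillLib

end
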