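import Groth.Agent.FKillLib.Chase
import Groth.Agent.FormalCohLib.Counit
import Groth.Agent.QCohLib.AffineFinite

/-!
# Compatible families on the levels come from global sections
-/

set_option autoImplicit false
set_option linter.style.haveILetI false
set_option linter.unusedSectionVars false
set_option maxHeartbeats 800000
set_option synthInstance.maxHeartbeats 80000

universe u

open CategoryTheory CategoryTheory.Limits AlgebraicGeometry TopologicalSpace Opposite FSch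
open FModLib (MSec RSec oK piSec mres)
open FRpushLib (pre)
open FRpushCmplLib (cφ)

noncomputable section

namespace FKillLib

/-- Sequences converge in finite modules when they do in the ring. -/
theorem exists_limit {R H : Type*} [CommRing R] [AddCommGroup H] [Module R H] [Module.Finite R H] (I : Ideal R)
    (hR : ∀ a : ℕ → R, (∀ n, a (n + 1) - a n ∈ I ^ (n + 1)) → ∃ L, ∀ n, L - a n ∈ I ^ (n + 1))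
    (y : ℕ → H) (hy : ∀ n, y (n + 1) - y n ∈ (I ^ (n + 1) • ⊤ : Submodule R H)) :
    ∃ h, ∀ n, h - y n ∈ (I ^ (n + 1) • ⊤ : Submodule R H) := by
  classical
  obtain ⟨d, e, he⟩ := Module.Finite.exists_fin (R := R) (M := H)
  have hsp : ∀ m : H, ∃ a : Fin d → R, ∑ i, a i • e i = m := fun m =>
    (Submodule.mem_span_range_iff_exists_fun R).1 (he.ge trivial)
  choose b hb hbe using fun n => FRpushCmplLib.exists_coeff _ e hsp (hy n)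
  choose L hL using fun i => hR (fun n => ∑ k ∈ Finset.range n, b k i) fun n => by
    rw [Finset.sum_range_succ, add_sub_cancel_left]
    exact hb n i
  refine ⟨y 0 + ∑ i, L i • e i, fun n => ?_⟩
  have h1 : y n = y 0 + ∑ i, (∑ k ∈ Finset.range n, b k i) • e i := by
    simp only [Finset.sum_smul]
    rw [Finset.sum_comm, Finset.sum_congr rfl fun k _ => hbe k, Finset.sum_range_sub, add_sub_cancel]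
  rw [h1, add_sub_add_left_eq_sub, ← Finset.sum_sub_distrib]
  refine Submodule.sum_mem _ fun i _ => ?_
  rw [← sub_smul]
  exact Submodule.smul_mem_smul (hL i n) trivial

theorem exists_glue {X : Scheme.{u}} (M : X.Modules) {ι : Type u} (U : ι → X.Opens) (hU : ∀ p, ∃ i, p ∈ U i)
    (s : ∀ i, Γ(M, U i))
    (h : ∀ i j, M.presheaf.map (homOfLE inf_le_left).op (s i) =
      M.presheaf.map (homOfLE (inf_le_right : U i ⊓ U j ≤ U j)).op (s j)) :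
    ∃ t : Γ(M, ⊤), ∀ i, M.presheaf.map (homOfLE le_top).op t = s i := by
  obtain ⟨t, ht, -⟩ := TopCat.Sheaf.existsUnique_gluing'
    (⟨M.presheaf, M.isSheaf⟩ : TopCat.Sheaf AddCommGrpCat X) U ⊤ (fun i => homOfLE le_top)
    (fun p _ => let ⟨i, hi⟩ := hU p; Opens.mem_iSup.mpr ⟨i, hi⟩) s h
  exact ⟨t, ht⟩

variable {X Z : Scheme.{u}} [IsNoetherian X] [X.IsSeparated] (f : Z ⟶ X) [IsProper f] (𝓘 : X.IdealSheafData)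
  (𝓚 : Z.IdealSheafData) (h𝓚 : 𝓚 = 𝓘.comap f) (hpc : PowCompat f 𝓚 𝓘) (hX : (completionAlong X 𝓘).IsFormal)
  (hZ : (completionAlong Z 𝓚).IsFormal) (𝔉 : ModF (completionAlong X 𝓘) hX)
  (h𝔉 : IsCohF _ hX 𝔉) {W : X.Opens} (hW : IsAffineOpen W)

include hW in
theorem complete_R₀ (a : ℕ → R₀ 𝓘 hX W) (ha : ∀ n, a (n + 1) - a n ∈ IdI 𝓘 hX hW ^ (n + 1)) :
    ∃ L, ∀ n, L - a n ∈ IdI 𝓘 hX hW ^ (n + 1) := by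
  have hV := FRpushCmplLib.isAffine_pre 𝓘 hW
  have hk : ∀ k r, oK hX k (Vx 𝓘 W) r = 0 ↔ r ∈ IdI 𝓘 hX hW ^ (k + 1) := fun k r => by
    rw [IdI, ← Ideal.map_pow]
    exact oK_ker_iff 𝓘 hX hW k r
  obtain ⟨L, hL⟩ := (FModLib.toLim_bijective hX (Vx 𝓘 W) hV).2
    ⟨fun k => oK hX k (Vx 𝓘 W) (a k), fun k => (FModLib.oProj_succ hX (Vx 𝓘 W) k _).trans
      (sub_eq_zero.1 ((map_sub _ _ _).symm.trans ((hk k _).2 (ha k))))⟩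
  exact ⟨L, fun n => (hk n _).1 ((map_sub _ _ _).trans
    (sub_eq_zero.2 (congrArg (fun z : (FModLib.secSys hX (Vx 𝓘 W) hV).lim => z.1 n) hL)))⟩

include h𝔉 in
theorem finite_top :
    letI := topMod f 𝓘 hX 𝔉 hW
    Module.Finite (R₀ 𝓘 hX W) Γ(Nc f 𝓘 hX 𝔉 hW, ⊤) := by
  haveI := isNoetherian_R₀ 𝓘 hX hW
  haveI : AlgebraicGeometry.IsNoetherian (Spec (R₀ 𝓘 hX W)) := inferInstance
  have hc := FormalCohLib.isCoh_push_proper (pullback.snd f (jS 𝓘 hX hW)) (isCoh_Nc f 𝓘 hX 𝔉 h𝔉 hW)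
  haveI := hc.1
  obtain ⟨G, hG⟩ := (QCohLib.finite_of_isFT hc.2 (isAffineOpen_top (Spec (R₀ 𝓘 hX W)))).fg_top
  letI := topMod f 𝓘 hX 𝔉 hW
  refine ⟨⟨(show Finset Γ(Nc f 𝓘 hX 𝔉 hW, ⊤) from G), eq_top_iff.2 fun x _ => ?_⟩⟩
  suffices hs : ∀ y : Γ((Scheme.Modules.pushforward (pullback.snd f (jS 𝓘 hX hW))).obj (Nc f 𝓘 hX 𝔉 hW),
      (⊤ : (Spec (R₀ 𝓘 hX W)).Opens)), y ∈ Submodule.span Γ(Spec (R₀ 𝓘 hX W), ⊤) (G : Set _) →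
      (show Γ(Nc f 𝓘 hX 𝔉 hW, ⊤) from y) ∈ Submodule.span (R₀ 𝓘 hX W)
        ((show Finset Γ(Nc f 𝓘 hX 𝔉 hW, ⊤) from G) : Set Γ(Nc f 𝓘 hX 𝔉 hW, ⊤)) from hs x (hG.ge trivial)
  intro y hx
  induction hx using Submodule.span_induction with
  | mem y hy => exact Submodule.subset_span hy
  | zero => exact zero_mem _
  | add a b _ _ ha hb => exact add_mem ha hb
  | smul c a _ ha =>
    obtain ⟨r, rfl⟩ := (ConcreteCategory.bijective_of_isIso (Scheme.ΓSpecIso (R₀ 𝓘 hX W)).inv).2 c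
    have e : (pullback.snd f (jS 𝓘 hX hW)).app ⊤ ((Scheme.ΓSpecIso (R₀ 𝓘 hX W)).inv r) =
        alphaR f 𝓘 hX hW ⊤ r := by rw [Scheme.Hom.app_eq_appLE]; rfl
    have h2 := Submodule.smul_mem _ r ha
    change (alphaR f 𝓘 hX hW ⊤ r • (show Γ(Nc f 𝓘 hX 𝔉 hW, ⊤) from a)) ∈ _ at h2
    rw [← e] at h2
    exact h2

/-- Pieces meet in pieces. -/
def infA (U₁ U₂ : AffIn f W) : AffIn f W :=
  haveI : Z.IsSeparated := (Scheme.isSeparated_iff Z).2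
    (haveI := (Scheme.isSeparated_iff X).1 inferInstance
     (terminal.comp_from f) ▸ (inferInstance : IsSeparated (f ≫ terminal.from X)))
  ⟨U₁.1 ⊓ U₂.1, U₁.2.1.inf U₂.2.1, inf_le_left.trans U₁.2.2⟩

/-- The reduction, additively. -/
abbrev redHom (U : AffIn f W) (k : ℕ) : Γ(Nc f 𝓘 hX 𝔉 hW, ⊤) →+
    Γ(Lk f 𝓘 𝓚 hpc hX 𝔉 k, (completionAlong Z 𝓚).lvU hZ k (Vz 𝓚 U.1)) :=
  (Psi f 𝓘 𝓚 h𝓚 hpc hX hZ 𝔉 h𝔉 hW U k).comp (resC f 𝓘 hX 𝔉 hW U)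

theorem lift_glue_compat (k : ℕ)
    (z : Γ(Lk f 𝓘 𝓚 hpc hX 𝔉 k, (completionAlong Z 𝓚).lvU hZ k (Vz' f 𝓘 𝓚 hpc (W := W))))
    (m : ∀ U : AffIn f W, Γ(Nc f 𝓘 hX 𝔉 hW, Uc f 𝓘 hX hW U.1))
    (hm : ∀ U, Psi f 𝓘 𝓚 h𝓚 hpc hX hZ 𝔉 h𝔉 hW U k (m U) = resL f 𝓘 𝓚 hpc hX hZ 𝔉 U k z) (U₁ U₂ : AffIn f W) :
    letI := overZc f 𝓘 hX hW
    (Formal.modPow (IdI 𝓘 hX hW) (k + 1) (Nc f 𝓘 hX 𝔉 hW)).presheaf.map (homOfLE inf_le_left).op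
        ((Formal.modPowπ (IdI 𝓘 hX hW) (k + 1) (Nc f 𝓘 hX 𝔉 hW)).app (Uc f 𝓘 hX hW U₁.1) (m U₁)) =
      (Formal.modPow (IdI 𝓘 hX hW) (k + 1) (Nc f 𝓘 hX 𝔉 hW)).presheaf.map
        (homOfLE (inf_le_right : Uc f 𝓘 hX hW U₁.1 ⊓ Uc f 𝓘 hX hW U₂.1 ≤ Uc f 𝓘 hX hW U₂.1)).op
        ((Formal.modPowπ (IdI 𝓘 hX hW) (k + 1) (Nc f 𝓘 hX 𝔉 hW)).app (Uc f 𝓘 hX hW U₂.1) (m U₂)) := by
  letI := overZc f 𝓘 hX hW
  let U := infA f U₁ U₂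
  let p := Formal.modPowπ (IdI 𝓘 hX hW) (k + 1) (Nc f 𝓘 hX 𝔉 hW)
  have h1 : (U.1 : Z.Opens) ≤ U₁.1 := inf_le_left
  have h2 : (U.1 : Z.Opens) ≤ U₂.1 := inf_le_right
  let g1 := (pullback.fst f (jS 𝓘 hX hW)).preimage_mono h1
  let g2 := (pullback.fst f (jS 𝓘 hX hW)).preimage_mono h2
  have key : ∀ (V : AffIn f W) (hle : U.1 ≤ V.1),
      Psi f 𝓘 𝓚 h𝓚 hpc hX hZ 𝔉 h𝔉 hW U k ((Nc f 𝓘 hX 𝔉 hW).presheaf.map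
          (homOfLE ((pullback.fst f (jS 𝓘 hX hW)).preimage_mono hle)).op (m V)) =
        resL f 𝓘 𝓚 hpc hX hZ 𝔉 U k z := fun V hle => by
    refine (Psi_res f 𝓘 𝓚 h𝓚 hpc hX hZ 𝔉 h𝔉 hW hle k (m V)).trans ?_
    refine (congrArg ((Lk f 𝓘 𝓚 hpc hX 𝔉 k).presheaf.map (homOfLE (Vz_mono 𝓚 hZ hle k)).op) (hm V)).trans ?_
    exact QCohLib.map_map' _ (homOfLE (Vz_mono 𝓚 hZ hle k)) (homOfLE (Vz_le f 𝓘 𝓚 hpc hZ V.2.2 k)) z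
  have h0 := (pi_zero_iff f 𝓘 𝓚 h𝓚 hpc hX hZ 𝔉 h𝔉 hW U k
    ((Nc f 𝓘 hX 𝔉 hW).presheaf.map (homOfLE g1).op (m U₁) - (Nc f 𝓘 hX 𝔉 hW).presheaf.map (homOfLE g2).op (m U₂))).2
    ((map_sub _ _ _).trans (sub_eq_zero.2 ((key U₁ h1).trans (key U₂ h2).symm)))
  have h3 := sub_eq_zero.1 ((map_sub (p.app (Uc f 𝓘 hX hW U.1)).hom _ _).symm.trans h0)
  exact (QCohLib.app_map p (homOfLE g1) (m U₁)).symm.trans (h3.trans (QCohLib.app_map p (homOfLE g2) (m U₂)))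

include h𝓚 h𝔉 in
theorem exists_lift_level {z : ∀ k, Γ(Lk f 𝓘 𝓚 hpc hX 𝔉 k, (completionAlong Z 𝓚).lvU hZ k (Vz' f 𝓘 𝓚 hpc (W := W)))}
    (hz : IsCompat f 𝓘 𝓚 hpc hX hZ 𝔉 z) (n : ℕ) :
    ∃ x : Γ(Nc f 𝓘 hX 𝔉 hW, ⊤), ∀ U : AffIn f W,
      red f 𝓘 𝓚 h𝓚 hpc hX hZ 𝔉 h𝔉 hW U n x = resL f 𝓘 𝓚 hpc hX hZ 𝔉 U n (z n) := by
  obtain ⟨m, hnm, hsurj, -⟩ := exists_bounds f 𝓘 𝓚 h𝓚 hpc hX hZ 𝔉 h𝔉 hW n
  letI := overZc f 𝓘 hX hW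
  choose w hw using fun U : AffIn f W =>
    (Psi_spec f 𝓘 𝓚 h𝓚 hpc hX hZ 𝔉 h𝔉 hW U m).2.2.2.2.1 (resL f 𝓘 𝓚 hpc hX hZ 𝔉 U m (z m))
  obtain ⟨s, hs⟩ := exists_glue (Formal.modPow (IdI 𝓘 hX hW) (m + 1) (Nc f 𝓘 hX 𝔉 hW))
    (fun U : AffIn f W => Uc f 𝓘 hX hW U.1) (exists_AffIn_mem f 𝓘 hX hW) _
    (lift_glue_compat f 𝓘 𝓚 h𝓚 hpc hX hZ 𝔉 h𝔉 hW m (z m) w hw)
  obtain ⟨x, hx⟩ := hsurj m le_rfl (Nat.succ_le_succ hnm) s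
  refine ⟨x, fun U => ?_⟩
  let q := Formal2.modPowLE (IdI 𝓘 hX hW) (Nat.succ_le_succ hnm) (Nc f 𝓘 hX 𝔉 hW)
  let p := Formal.modPowπ (IdI 𝓘 hX hW) (n + 1) (Nc f 𝓘 hX 𝔉 hW)
  have h1 : p.app (Uc f 𝓘 hX hW U.1) (resC f 𝓘 hX 𝔉 hW U x) = p.app (Uc f 𝓘 hX hW U.1) (w U) := by
    refine (QCohLib.app_map p (homOfLE le_top) x).trans ?_
    refine (congrArg ((Formal.modPow (IdI 𝓘 hX hW) (n + 1) (Nc f 𝓘 hX 𝔉 hW)).presheaf.map (homOfLE le_top).op) hx).trans ?_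
    refine (QCohLib.app_map q (homOfLE le_top) s).symm.trans ?_
    refine (congrArg (q.app (Uc f 𝓘 hX hW U.1)) (hs U)).trans ?_
    exact congr($(congrArg (fun t => Scheme.Modules.Hom.app t (Uc f 𝓘 hX hW U.1))
      (Formal2.modPowπ_modPowLE (IdI 𝓘 hX hW) (Nat.succ_le_succ hnm) (Nc f 𝓘 hX 𝔉 hW))) (w U))
  have h2 := (pi_zero_iff f 𝓘 𝓚 h𝓚 hpc hX hZ 𝔉 h𝔉 hW U n (resC f 𝓘 hX 𝔉 hW U x - w U)).1
    ((map_sub (p.app (Uc f 𝓘 hX hW U.1)).hom _ _).trans (sub_eq_zero.2 h1))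
  rw [map_sub, sub_eq_zero] at h2
  refine h2.trans ?_
  obtain ⟨d, rfl⟩ := Nat.le.dest hnm
  exact Psi_down f 𝓘 𝓚 h𝓚 hpc hX hZ 𝔉 h𝔉 hW U (w U) hz n d (hw U)

include h𝓚 h𝔉 in
/-- **Compatible families come from global sections.** -/
theorem exists_lift {z : ∀ k, Γ(Lk f 𝓘 𝓚 hpc hX 𝔉 k, (completionAlong Z 𝓚).lvU hZ k (Vz' f 𝓘 𝓚 hpc (W := W)))}
    (hz : IsCompat f 𝓘 𝓚 hpc hX hZ 𝔉 z) :
    ∃ h : Γ(Nc f 𝓘 hX 𝔉 hW, ⊤), ∀ (U : AffIn f W) (k : ℕ),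
      red f 𝓘 𝓚 h𝓚 hpc hX hZ 𝔉 h𝔉 hW U k h = resL f 𝓘 𝓚 hpc hX hZ 𝔉 U k (z k) := by
  classical
  choose m hm hker using fun n =>
    let ⟨m, h, _, h2⟩ := exists_bounds f 𝓘 𝓚 h𝓚 hpc hX hZ 𝔉 h𝔉 hW n
    (⟨m, h, h2⟩ : ∃ m, n ≤ m ∧ ∀ x : Γ(Nc f 𝓘 hX 𝔉 hW, ⊤),
      (∀ U : AffIn f W, red f 𝓘 𝓚 h𝓚 hpc hX hZ 𝔉 h𝔉 hW U m x = 0) →
        letI := topMod f 𝓘 hX 𝔉 hW
        x ∈ (IdI 𝓘 hX hW ^ (n + 1) • ⊤ : Submodule (R₀ 𝓘 hX W) Γ(Nc f 𝓘 hX 𝔉 hW, ⊤)))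
  let M : ℕ → ℕ := fun n => (Finset.range (n + 1)).sup m
  have hmM : ∀ i n, i ≤ n → m i ≤ M n := fun i n h => Finset.le_sup (Finset.mem_range.2 (Nat.lt_succ_of_le h))
  choose y hy using fun n => exists_lift_level f 𝓘 𝓚 h𝓚 hpc hX hZ 𝔉 h𝔉 hW hz (M n)
  have down : ∀ (U : AffIn f W) (n k : ℕ), k ≤ M n →
      red f 𝓘 𝓚 h𝓚 hpc hX hZ 𝔉 h𝔉 hW U k (y n) = resL f 𝓘 𝓚 hpc hX hZ 𝔉 U k (z k) := fun U n k hk => by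
    obtain ⟨d, hd⟩ := Nat.le.dest hk
    refine Psi_down f 𝓘 𝓚 h𝓚 hpc hX hZ 𝔉 h𝔉 hW U _ hz k d ?_
    rw [hd]
    exact hy n U
  letI := topMod f 𝓘 hX 𝔉 hW
  haveI := finite_top f 𝓘 hX 𝔉 h𝔉 hW
  obtain ⟨h, hh⟩ := exists_limit (IdI 𝓘 hX hW) (complete_R₀ 𝓘 hX hW) y fun n => hker n _ fun U => by
    refine ((redHom f 𝓘 𝓚 h𝓚 hpc hX hZ 𝔉 h𝔉 hW U (m n)).map_sub _ _).trans (sub_eq_zero.2 ?_)
    exact (down U (n + 1) (m n) (hmM n _ n.le_succ)).trans (down U n (m n) (hmM n _ le_rfl)).symm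
  refine ⟨h, fun U k => ?_⟩
  refine Eq.trans ?_ (down U k k ((hm k).trans (hmM k k le_rfl)))
  refine sub_eq_zero.1 (((redHom f 𝓘 𝓚 h𝓚 hpc hX hZ 𝔉 h𝔉 hW U k).map_sub h (y k)).symm.trans ?_)
  refine (pi_zero_iff f 𝓘 𝓚 h𝓚 hpc hX hZ 𝔉 h𝔉 hW U k (resC f 𝓘 hX 𝔉 hW U (h - y k))).1 ?_
  letI := overZc f 𝓘 hX hW
  haveI := isNoetherian_Zc f 𝓘 hX hW
  haveI := (isCoh_Nc f 𝓘 hX 𝔉 h𝔉 hW).1
  refine (FormalCohLib.app_modPowπ_eq_zero (IdI 𝓘 hX hW) _ (k + 1) (isAffine_Uc f 𝓘 hX hW U) _).2 ?_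
  rw [FormalCohLib.idU_pow, rhoA_eq]
  refine Submodule.smul_induction_on (p := fun v => resC f 𝓘 hX 𝔉 hW U v ∈ _) (hh k) (fun r hr v _ => ?_)
    (fun a b ha hb => (map_add (resC f 𝓘 hX 𝔉 hW U) a b).symm ▸ add_mem ha hb)
  show resC f 𝓘 hX 𝔉 hW U (alphaR f 𝓘 hX hW ⊤ r • v) ∈ _
  refine (Scheme.Modules.map_smul _ (homOfLE le_top) _ _).symm ▸ Submodule.smul_mem_smul ?_ trivial
  have e : (Zc f 𝓘 hX hW).presheaf.map (homOfLE (le_top : Uc f 𝓘 hX hW U.1 ≤ ⊤)).op (alphaR f 𝓘 hX hW ⊤ r) =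
      alphaR f 𝓘 hX hW (Uc f 𝓘 hX hW U.1) r :=
    congr($(Scheme.Hom.appLE_map (pullback.snd f (jS 𝓘 hX hW)) (le_top : (⊤ : (Zc f 𝓘 hX hW).Opens) ≤ _)
      (homOfLE (le_top : Uc f 𝓘 hX hW U.1 ≤ ⊤)).op) ((Scheme.ΓSpecIso (R₀ 𝓘 hX W)).inv r))
  exact e.symm ▸ Ideal.mem_map_of_mem _ hr

end FKillLib

end
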