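import Groth.Agent.FKillLib.Limit
import Mathlib.RingTheory.Filtration

/-!
# Separation of the reductions, torsion of kernel and cokernel over an affine open
-/

set_option autoImplicit false
set_option linter.style.haveILetI false
set_option linter.unusedSectionVars false
set_option maxHeartbeats 800000
set_option synthInstance.maxHeartbeats 80000

universe u

open CategoryTheory CategoryTheory.Limits AlgebraicGeometry TopologicalSpace Opposite FSch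
open FModLib (MSec RSec oK piSec mres)
open FRpushLib (pre)
open FRpushCmplLib (cφ)

noncomputable section

namespace FKillLib

variable {X Z : Scheme.{u}} [IsNoetherian X] [X.IsSeparated] (f : Z ⟶ X) [IsProper f] (𝓘 : X.IdealSheafData)
  (𝓚 : Z.IdealSheafData) (h𝓚 : 𝓚 = 𝓘.comap f) (hpc : PowCompat f 𝓚 𝓘) (hX : (completionAlong X 𝓘).IsFormal)
  (hZ : (completionAlong Z 𝓚).IsFormal) (𝔉 : ModF (completionAlong X 𝓘) hX)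
  (h𝔉 : IsCohF _ hX 𝔉) {W : X.Opens} (hW : IsAffineOpen W)

include h𝓚 h𝔉 in
/-- **Sections vanishing on all reductions vanish.** -/
theorem red_injective (h : Γ(Nc f 𝓘 hX 𝔉 hW, ⊤))
    (h0 : ∀ (U : AffIn f W) (k : ℕ), red f 𝓘 𝓚 h𝓚 hpc hX hZ 𝔉 h𝔉 hW U k h = 0) : h = 0 := by
  haveI := isNoetherian_R₀ 𝓘 hX hW
  letI := topMod f 𝓘 hX 𝔉 hW
  haveI := finite_top f 𝓘 hX 𝔉 h𝔉 hW
  have hj : IdI 𝓘 hX hW ≤ (⊥ : Ideal (R₀ 𝓘 hX W)).jacobson := fun r hr =>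
    FCohLib.ker_oK_le_jacobson (hlocC 𝓘 hX) (FRpushCmplLib.isAffine_pre 𝓘 hW)
      (RingHom.mem_ker.2 ((oK_ker_iff 𝓘 hX hW 0 r).2 (by rwa [zero_add, pow_one])))
  have hb : h ∈ (⨅ n, IdI 𝓘 hX hW ^ n • ⊤ : Submodule (R₀ 𝓘 hX W) Γ(Nc f 𝓘 hX 𝔉 hW, ⊤)) := by
    refine (Submodule.mem_iInf _).2 fun n => ?_
    obtain ⟨m, -, -, hm⟩ := exists_bounds f 𝓘 𝓚 h𝓚 hpc hX hZ 𝔉 h𝔉 hW n
    exact Submodule.smul_mono_left (Ideal.pow_le_pow_right n.le_succ) (hm h fun U => h0 U m)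
  rwa [Ideal.iInf_pow_smul_eq_bot_of_le_jacobson _ hj, Submodule.mem_bot] at hb

/-- Sections to global sections upstairs, linearly. -/
def psiLin : letI := topMod f 𝓘 hX 𝔉 hW; MSec 𝔉 (Vx 𝓘 W) →ₗ[R₀ 𝓘 hX W] Γ(Nc f 𝓘 hX 𝔉 hW, ⊤) :=
  letI := topMod f 𝓘 hX 𝔉 hW
  { toFun := psiU f 𝓘 hX 𝔉 hW ⊤
    map_add' := map_add _
    map_smul' := psiU_smul f 𝓘 hX 𝔉 hW ⊤ }

theorem psiU_top (x : MSec 𝔉 (Vx 𝓘 W)) :
    psiU f 𝓘 hX 𝔉 hW ⊤ x = ((Scheme.Modules.pullbackPushforwardAdjunction (pullback.snd f (jS 𝓘 hX hW))).unit.app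
      (tilde (Mod₀ 𝓘 hX 𝔉 W))).app ⊤ (topSec (Mod₀ 𝓘 hX 𝔉 W) x) := by
  refine (KFlatLib.puSecLE_apply (pullback.snd f (jS 𝓘 hX hW)) (tilde (Mod₀ 𝓘 hX 𝔉 W))
    (le_top : (⊤ : (Zc f 𝓘 hX hW).Opens) ≤ _) (topSec (Mod₀ 𝓘 hX 𝔉 W) x)).trans ?_
  exact (congr($(congrArg (Nc f 𝓘 hX 𝔉 hW).presheaf.map (Subsingleton.elim _ (𝟙 _))) _)).trans
    (congr($((Nc f 𝓘 hX 𝔉 hW).presheaf.map_id _) _))

variable (𝓜 : X.IdealSheafData) (hU : IsIso (f ∣_ 𝓜.support.compl))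

include hU in
theorem isIso_basicOpen {a : Γ(X, W)} (ha : a ∈ 𝓜.ideal ⟨W, hW⟩) :
    IsIso (pullback.snd f (jS 𝓘 hX hW) ∣_
      (Spec (R₀ 𝓘 hX W)).basicOpen ((Scheme.ΓSpecIso (R₀ 𝓘 hX W)).inv (c₀ 𝓘 hX W a))) := by
  refine isIso_morphismRestrict_baseChange f (jS 𝓘 hX hW) 𝓜.support.compl (hU := hU) _ ?_
  have e : (Spec (R₀ 𝓘 hX W)).basicOpen ((Scheme.ΓSpecIso (R₀ 𝓘 hX W)).inv (c₀ 𝓘 hX W a)) ≤
      jS 𝓘 hX hW ⁻¹ᵁ X.basicOpen a := by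
    refine le_of_eq_of_le (congrArg (Spec (R₀ 𝓘 hX W)).basicOpen (congr($(jS_appLE 𝓘 hX hW) a)).symm) ?_
    rw [Scheme.Hom.appLE, Scheme.preimage_basicOpen]
    exact ((Spec (R₀ 𝓘 hX W)).basicOpen_res _ _).trans_le inf_le_right
  refine e.trans ((jS 𝓘 hX hW).preimage_mono fun q hq hs => ?_)
  have hqW : q ∈ (⟨W, hW⟩ : X.affineOpens).1 := X.basicOpen_le a hq
  have := (Scheme.IdealSheafData.mem_support_iff_of_mem hqW).1 hs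
  exact (X.mem_zeroLocus_iff _ q).1 this a ha hq

include hU h𝔉 in
/-- **A power kills kernel and cokernel.** -/
theorem exists_kill : ∃ n : ℕ, ∀ s ∈ 𝓜.ideal ⟨W, hW⟩ ^ n,
    (∀ x, psiU f 𝓘 hX 𝔉 hW ⊤ x = 0 → c₀ 𝓘 hX W s • x = 0) ∧
      ∀ h, ∃ x, psiU f 𝓘 hX 𝔉 hW ⊤ x = alphaR f 𝓘 hX hW ⊤ (c₀ 𝓘 hX W s) • h := by
  haveI : IsNoetherianRing Γ(X, W) := IsLocallyNoetherian.component_noetherian ⟨W, hW⟩
  haveI := isNoetherian_R₀ 𝓘 hX hW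
  haveI := finite_MSec 𝓘 hX 𝔉 h𝔉 hW
  letI := topMod f 𝓘 hX 𝔉 hW
  haveI := finite_top f 𝓘 hX 𝔉 h𝔉 hW
  let g := pullback.snd f (jS 𝓘 hX hW)
  let P := tilde (Mod₀ 𝓘 hX 𝔉 W)
  let e := Scheme.ΓSpecIso (R₀ 𝓘 hX W)
  let ψ := psiLin f 𝓘 hX 𝔉 hW
  have hp : ∀ (a : Γ(X, W)) (d : ℕ), (e.inv (c₀ 𝓘 hX W a)) ^ d = e.inv (c₀ 𝓘 hX W a ^ d) := fun a d =>
    (map_pow e.inv.hom _ d).symm
  obtain ⟨n₁, h₁⟩ := exists_pow_kill (L := MSec 𝔉 (Vx 𝓘 W)) (c₀ 𝓘 hX W).hom (𝓜.ideal ⟨W, hW⟩) (LinearMap.ker ψ)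
    fun a ha x hx => by
      haveI := isIso_basicOpen f 𝓘 hX hW 𝓜 hU ha
      obtain ⟨d, hd⟩ := (unit_torsion g P (e.inv (c₀ 𝓘 hX W a))).1 _ ((psiU_top f 𝓘 hX 𝔉 hW x).symm.trans hx)
      refine ⟨d, (topSec_bijective (Mod₀ 𝓘 hX 𝔉 W)).1 ((topSec_smul (Mod₀ 𝓘 hX 𝔉 W) _ x).trans ?_)⟩
      rw [map_zero]
      rw [hp] at hd
      exact hd
  obtain ⟨n₂, h₂⟩ := exists_pow_kill (L := Γ(Nc f 𝓘 hX 𝔉 hW, ⊤) ⧸ LinearMap.range ψ) (c₀ 𝓘 hX W).hom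
    (𝓜.ideal ⟨W, hW⟩) ⊤ fun a ha z _ => by
      obtain ⟨h, rfl⟩ := Submodule.Quotient.mk_surjective _ z
      haveI := isIso_basicOpen f 𝓘 hX hW 𝓜 hU ha
      obtain ⟨d, y, hy⟩ := (unit_torsion g P (e.inv (c₀ 𝓘 hX W a))).2 h
      obtain ⟨x, rfl⟩ := (topSec_bijective (Mod₀ 𝓘 hX 𝔉 W)).2 y
      refine ⟨d, (Submodule.Quotient.mk_smul _ _ _).symm.trans ((Submodule.Quotient.mk_eq_zero _).2 ⟨x, ?_⟩)⟩
      refine ((psiU_top f 𝓘 hX 𝔉 hW x).trans hy).trans ?_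
      rw [hp]
      exact congrArg (fun t : Γ(Zc f 𝓘 hX hW, ⊤) => t • (show Γ(Nc f 𝓘 hX 𝔉 hW, ⊤) from h))
        (show g.app ⊤ (e.inv (c₀ 𝓘 hX W a ^ d)) = alphaR f 𝓘 hX hW ⊤ (c₀ 𝓘 hX W a ^ d) by
          rw [Scheme.Hom.app_eq_appLE]; rfl)
  refine ⟨max n₁ n₂, fun s hs => ⟨fun x hx => h₁ s (Ideal.pow_le_pow_right (le_max_left _ _) hs) x hx, fun h => ?_⟩⟩
  exact (Submodule.Quotient.mk_eq_zero _).1 ((Submodule.Quotient.mk_smul (LinearMap.range ψ) _ _).trans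
    (h₂ s (Ideal.pow_le_pow_right (le_max_right _ _) hs) (Submodule.Quotient.mk h) trivial))

end FKillLib

end
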