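import Groth.Agent.FKillLib.Torsion
import Groth.Agent.FCohLib.PullReal
import Groth.Agent.FModLib.PullFP

/-!
# The unit on sections over an affine open of the base, through the levels
-/

set_option autoImplicit false
set_option linter.style.haveILetI false
set_option linter.unusedSectionVars false
set_option maxHeartbeats 800000
set_option synthInstance.maxHeartbeats 80000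

universe u

open CategoryTheory CategoryTheory.Limits AlgebraicGeometry TopologicalSpace Opposite FSch
open FModLib (MSec RSec oK piSec mres rres)
open FRpushLib (pre)
open FRpushCmplLib (cφ)

noncomputable section

namespace FKillLib

variable {X Z : Scheme.{u}} [IsNoetherian X] [X.IsSeparated] (f : Z ⟶ X) [IsProper f] (𝓘 : X.IdealSheafData)
  (𝓚 : Z.IdealSheafData) (h𝓚 : 𝓚 = 𝓘.comap f) (hpc : PowCompat f 𝓚 𝓘) (hX : (completionAlong X 𝓘).IsFormal)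
  (hZ : (completionAlong Z 𝓚).IsFormal) (𝔉 : ModF (completionAlong X 𝓘) hX)
  (h𝔉 : IsCohF _ hX 𝔉)

include f in
theorem isLocallyNoetherian_src : IsLocallyNoetherian Z := LocallyOfFiniteType.isLocallyNoetherian f

/-- The inverse image as a limit of its levels. -/
def Ehom : (pullF (cφ f 𝓘 𝓚 hpc) hZ hX).obj 𝔉 ⟶ (Lsys f 𝓘 𝓚 hpc hX 𝔉).realMod hZ :=
  (pullF (cφ f 𝓘 𝓚 hpc) hZ hX).map (FCohLib.etaReal (hlocC 𝓘 hX) 𝔉) ≫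
    FCohLib.pullReal (cφ f 𝓘 𝓚 hpc) hZ hX (FCohLib.levSys (hlocC 𝓘 hX) 𝔉)

include h𝔉 in
theorem isIso_Ehom : IsIso (Ehom f 𝓘 𝓚 hpc hX hZ 𝔉) := by
  haveI := isLocallyNoetherian_src f
  haveI := FCohLib.isIso_etaReal (hlocC 𝓘 hX) h𝔉
  haveI : IsIso (FCohLib.pullReal (cφ f 𝓘 𝓚 hpc) hZ hX (FCohLib.levSys (hlocC 𝓘 hX) 𝔉)) :=
    FCohLib.isIso_pullReal (cφ f 𝓘 𝓚 hpc) _ (hlocC 𝓚 hZ) (hlocC 𝓘 hX) (FCohLib.isCoh_levSys (hlocC 𝓘 hX) h𝔉)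
  delta Ehom
  infer_instance

/-- The unit. -/
abbrev eta : 𝔉 ⟶ (pushF (cφ f 𝓘 𝓚 hpc) hZ hX).obj ((pullF (cφ f 𝓘 𝓚 hpc) hZ hX).obj 𝔉) :=
  (homMor (cφ f 𝓘 𝓚 hpc) hZ hX).adj.unit.app 𝔉

variable {W : X.Opens} (hW : IsAffineOpen W)

/-- The levels of a section of the target of the unit. -/
def zLev (y : MSec ((pullF (cφ f 𝓘 𝓚 hpc) hZ hX).obj 𝔉) (Vz' f 𝓘 𝓚 hpc (W := W))) (k : ℕ) :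
    Γ(Lk f 𝓘 𝓚 hpc hX 𝔉 k, (completionAlong Z 𝓚).lvU hZ k (Vz' f 𝓘 𝓚 hpc (W := W))) :=
  FCohLib.rp hZ (Lsys f 𝓘 𝓚 hpc hX 𝔉).F (Lsys f 𝓘 𝓚 hpc hX 𝔉).toPush k _
    ((Ehom f 𝓘 𝓚 hpc hX hZ 𝔉).val.app (op _) y)

theorem isCompat_zLev (y : MSec ((pullF (cφ f 𝓘 𝓚 hpc) hZ hX).obj 𝔉) (Vz' f 𝓘 𝓚 hpc (W := W))) :
    IsCompat f 𝓘 𝓚 hpc hX hZ 𝔉 (zLev f 𝓘 𝓚 hpc hX hZ 𝔉 y) := fun k =>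
  FCohLib.rp_succ hZ _ _ k _ _

theorem resL_smul (U : AffIn f W) (k : ℕ) (c : Γ((completionAlong Z 𝓚).X k, (completionAlong Z 𝓚).lvU hZ k (Vz' f 𝓘 𝓚 hpc (W := W))))
    (m : Γ(Lk f 𝓘 𝓚 hpc hX 𝔉 k, (completionAlong Z 𝓚).lvU hZ k (Vz' f 𝓘 𝓚 hpc (W := W)))) :
    resL f 𝓘 𝓚 hpc hX hZ 𝔉 U k (c • m) =
      ((completionAlong Z 𝓚).X k).presheaf.map (homOfLE (Vz_le f 𝓘 𝓚 hpc hZ U.2.2 k)).op c •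
        resL f 𝓘 𝓚 hpc hX hZ 𝔉 U k m :=
  Scheme.Modules.map_smul _ (homOfLE (Vz_le f 𝓘 𝓚 hpc hZ U.2.2 k)) c m

theorem zLev_smul (r : R₀ 𝓘 hX W) (y : MSec ((pullF (cφ f 𝓘 𝓚 hpc) hZ hX).obj 𝔉) (Vz' f 𝓘 𝓚 hpc (W := W)))
    (U : AffIn f W) (k : ℕ) :
    resL f 𝓘 𝓚 hpc hX hZ 𝔉 U k
      (zLev f 𝓘 𝓚 hpc hX hZ 𝔉 ((show MSec ((pushF (cφ f 𝓘 𝓚 hpc) hZ hX).obj ((pullF (cφ f 𝓘 𝓚 hpc) hZ hX).obj 𝔉))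
        (Vx 𝓘 W) from r • (show MSec ((pushF (cφ f 𝓘 𝓚 hpc) hZ hX).obj ((pullF (cφ f 𝓘 𝓚 hpc) hZ hX).obj 𝔉))
          (Vx 𝓘 W) from y))) k) =
      ((cφ f 𝓘 𝓚 hpc : Hom _ _).app k).appLE _ _ (lvU_le_of_le f 𝓘 𝓚 hpc hX hZ U.2.2 k) (oK hX k (Vx 𝓘 W) r) •
        resL f 𝓘 𝓚 hpc hX hZ 𝔉 U k (zLev f 𝓘 𝓚 hpc hX hZ 𝔉 y k) := by
  have h1 : (Ehom f 𝓘 𝓚 hpc hX hZ 𝔉).val.app (op (Vz' f 𝓘 𝓚 hpc (W := W)))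
      (FModLib.sharpSec ((cφ f 𝓘 𝓚 hpc : Hom _ _).app 0).base (Hom.sharp (cφ f 𝓘 𝓚 hpc) hZ hX) (Vx 𝓘 W) r • y) =
      FModLib.sharpSec ((cφ f 𝓘 𝓚 hpc : Hom _ _).app 0).base (Hom.sharp (cφ f 𝓘 𝓚 hpc) hZ hX) (Vx 𝓘 W) r •
        (Ehom f 𝓘 𝓚 hpc hX hZ 𝔉).val.app (op (Vz' f 𝓘 𝓚 hpc (W := W))) y :=
    map_smul ((Ehom f 𝓘 𝓚 hpc hX hZ 𝔉).val.app (op (Vz' f 𝓘 𝓚 hpc (W := W)))).hom _ y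
  refine (congrArg (resL f 𝓘 𝓚 hpc hX hZ 𝔉 U k) ((congrArg (fun e => FCohLib.rp hZ (Lsys f 𝓘 𝓚 hpc hX 𝔉).F
    (Lsys f 𝓘 𝓚 hpc hX 𝔉).toPush k (Vz' f 𝓘 𝓚 hpc (W := W)) e) h1).trans (FCohLib.rp_smul hZ _ _ k _ _))).trans ?_
  refine (resL_smul f 𝓘 𝓚 hpc hX hZ 𝔉 U k _ _).trans ?_
  refine congrArg (fun t => t • resL f 𝓘 𝓚 hpc hX hZ 𝔉 U k (zLev f 𝓘 𝓚 hpc hX hZ 𝔉 y k)) ?_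
  refine (congrArg (((completionAlong Z 𝓚).X k).presheaf.map (homOfLE (Vz_le f 𝓘 𝓚 hpc hZ U.2.2 k)).op)
    (FCohLib.oK_sharp (cφ f 𝓘 𝓚 hpc) hZ hX k (Vx 𝓘 W) r)).trans ?_
  have e : ((cφ f 𝓘 𝓚 hpc : Hom _ _).app k).app ((completionAlong X 𝓘).lvU hX k (Vx 𝓘 W)) ≫
      ((completionAlong Z 𝓚).X k).presheaf.map (homOfLE (Hom.lvU_preimage (cφ f 𝓘 𝓚 hpc) hZ hX k (Vx 𝓘 W)).ge).op ≫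
        ((completionAlong Z 𝓚).X k).presheaf.map (homOfLE (Vz_le f 𝓘 𝓚 hpc hZ U.2.2 k)).op =
      ((cφ f 𝓘 𝓚 hpc : Hom _ _).app k).appLE _ _ (lvU_le_of_le f 𝓘 𝓚 hpc hX hZ U.2.2 k) := by
    rw [← Functor.map_comp]
    rfl
  exact congr($e (oK hX k (Vx 𝓘 W) r))

theorem resL_zLev_eta (x : MSec 𝔉 (Vx 𝓘 W)) (U : AffIn f W) (k : ℕ) :
    resL f 𝓘 𝓚 hpc hX hZ 𝔉 U k (zLev f 𝓘 𝓚 hpc hX hZ 𝔉 ((eta f 𝓘 𝓚 hpc hX hZ 𝔉).val.app (op (Vx 𝓘 W)) x) k) =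
      qS f 𝓘 𝓚 hpc hX hZ 𝔉 U.2.2 k (piSec hX 𝔉 k (Vx 𝓘 W) x) := by
  let θ := FCohLib.etaReal (hlocC 𝓘 hX) 𝔉
  have h1 : ((pullF (cφ f 𝓘 𝓚 hpc) hZ hX).map θ).val.app (op (Vz' f 𝓘 𝓚 hpc (W := W)))
      ((eta f 𝓘 𝓚 hpc hX hZ 𝔉).val.app (op (Vx 𝓘 W)) x) =
      FModLib.unitSec ((cφ f 𝓘 𝓚 hpc : Hom _ _).app 0).base (Hom.sharp (cφ f 𝓘 𝓚 hpc) hZ hX)
        ((FCohLib.levSys (hlocC 𝓘 hX) 𝔉).realMod hX) (Vx 𝓘 W) (θ.val.app (op (Vx 𝓘 W)) x) :=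
    (congr($(congrArg (fun a : 𝔉 ⟶ _ => a.val.app (op (Vx 𝓘 W)))
      ((homMor (cφ f 𝓘 𝓚 hpc) hZ hX).adj.unit.naturality θ)) x)).symm
  have h2 : zLev f 𝓘 𝓚 hpc hX hZ 𝔉 ((eta f 𝓘 𝓚 hpc hX hZ 𝔉).val.app (op (Vx 𝓘 W)) x) k =
      KFlatLib.puSecLE ((cφ f 𝓘 𝓚 hpc : Hom _ _).app k) (FModLib.lev hX 𝔉 k)
        (Hom.lvU_preimage (cφ f 𝓘 𝓚 hpc) hZ hX k (Vx 𝓘 W)).ge (piSec hX 𝔉 k (Vx 𝓘 W) x) := by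
    refine (congrArg (fun e => FCohLib.rp hZ (Lsys f 𝓘 𝓚 hpc hX 𝔉).F (Lsys f 𝓘 𝓚 hpc hX 𝔉).toPush k
      (Vz' f 𝓘 𝓚 hpc (W := W)) ((FCohLib.pullReal (cφ f 𝓘 𝓚 hpc) hZ hX
        (FCohLib.levSys (hlocC 𝓘 hX) 𝔉)).val.app (op (Vz' f 𝓘 𝓚 hpc (W := W))) e)) h1).trans ?_
    refine (FCohLib.rp_pullReal (cφ f 𝓘 𝓚 hpc) hZ hX (FCohLib.levSys (hlocC 𝓘 hX) 𝔉) k (Vx 𝓘 W) _).trans ?_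
    exact congrArg (KFlatLib.puSecLE ((cφ f 𝓘 𝓚 hpc : Hom _ _).app k) (FModLib.lev hX 𝔉 k) _)
      (FCohLib.rp_etaReal (hlocC 𝓘 hX) 𝔉 k (Vx 𝓘 W) x)
  refine (congrArg (resL f 𝓘 𝓚 hpc hX hZ 𝔉 U k) h2).trans ?_
  exact QCohLib.map_map' _ (homOfLE (Vz_le f 𝓘 𝓚 hpc hZ U.2.2 k))
    (homOfLE (Hom.lvU_preimage (cφ f 𝓘 𝓚 hpc) hZ hX k (Vx 𝓘 W)).ge) _

include h𝓚 h𝔉 in
theorem red_psiU (x : MSec 𝔉 (Vx 𝓘 W)) (U : AffIn f W) (k : ℕ) :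
    red f 𝓘 𝓚 h𝓚 hpc hX hZ 𝔉 h𝔉 hW U k (psiU f 𝓘 hX 𝔉 hW ⊤ x) =
      resL f 𝓘 𝓚 hpc hX hZ 𝔉 U k (zLev f 𝓘 𝓚 hpc hX hZ 𝔉 ((eta f 𝓘 𝓚 hpc hX hZ 𝔉).val.app (op (Vx 𝓘 W)) x) k) :=
  ((congrArg (Psi f 𝓘 𝓚 h𝓚 hpc hX hZ 𝔉 h𝔉 hW U k) (psiU_res f 𝓘 hX 𝔉 hW le_top x)).trans
    ((Psi_spec f 𝓘 𝓚 h𝓚 hpc hX hZ 𝔉 h𝔉 hW U k).2.2.2.1 x)).trans
      (resL_zLev_eta f 𝓘 𝓚 hpc hX hZ 𝔉 x U k).symm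

include hW h𝔉 in
/-- Sections of the target of the unit with the same levels on the pieces are equal. -/
theorem eq_of_resL (y y' : MSec ((pullF (cφ f 𝓘 𝓚 hpc) hZ hX).obj 𝔉) (Vz' f 𝓘 𝓚 hpc (W := W)))
    (h : ∀ (U : AffIn f W) (k : ℕ), resL f 𝓘 𝓚 hpc hX hZ 𝔉 U k (zLev f 𝓘 𝓚 hpc hX hZ 𝔉 y k) =
      resL f 𝓘 𝓚 hpc hX hZ 𝔉 U k (zLev f 𝓘 𝓚 hpc hX hZ 𝔉 y' k)) : y = y' := by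
  haveI := isIso_Ehom f 𝓘 𝓚 hpc hX hZ 𝔉 h𝔉
  have hE : (Ehom f 𝓘 𝓚 hpc hX hZ 𝔉).val.app (op (Vz' f 𝓘 𝓚 hpc (W := W))) y =
      (Ehom f 𝓘 𝓚 hpc hX hZ 𝔉).val.app (op (Vz' f 𝓘 𝓚 hpc (W := W))) y' := by
    refine FCohLib.rp_ext hZ _ _ fun k => ?_
    refine sub_eq_zero.1 (FCohLib.eq_zero_of_points (O := ((completionAlong Z 𝓚).X k).sheaf)
      (Lk f 𝓘 𝓚 hpc hX 𝔉 k) _ fun p hp => ?_)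
    have hp' : completionToX Z 𝓚 k p ∈ f ⁻¹ᵁ W := by
      have e : (completionAlong Z 𝓚).lvU hZ k (Vz' f 𝓘 𝓚 hpc (W := W)) = completionToX Z 𝓚 k ⁻¹ᵁ (f ⁻¹ᵁ W) :=
        (congrArg ((completionAlong Z 𝓚).lvU hZ k) (FRpushCmplLib.pre_eq f 𝓘 𝓚 hpc W)).trans
          (FRpushCmplLib.lvU_pre Z 𝓚 hZ (f ⁻¹ᵁ W) k).symm
      exact e.le hp
    obtain ⟨U, hU, hpU, hUW⟩ := Opens.isBasis_iff_nbhd.mp Z.isBasis_affineOpens hp'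
    refine ⟨(completionAlong Z 𝓚).lvU hZ k (Vz 𝓚 U), Vz_le f 𝓘 𝓚 hpc hZ hUW k,
      (FRpushCmplLib.lvU_pre Z 𝓚 hZ U k).le hpU, ?_⟩
    exact (map_sub (resL f 𝓘 𝓚 hpc hX hZ 𝔉 ⟨U, hU, hUW⟩ k) _ _).trans (sub_eq_zero.2 (h ⟨U, hU, hUW⟩ k))
  have hc := congrArg (fun a : (pullF (cφ f 𝓘 𝓚 hpc) hZ hX).obj 𝔉 ⟶ _ => a.val.app (op (Vz' f 𝓘 𝓚 hpc (W := W))))
    (IsIso.hom_inv_id (Ehom f 𝓘 𝓚 hpc hX hZ 𝔉))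
  exact (congr($hc y)).symm.trans
    ((congrArg ((inv (Ehom f 𝓘 𝓚 hpc hX hZ 𝔉)).val.app (op (Vz' f 𝓘 𝓚 hpc (W := W)))) hE).trans (congr($hc y')))

variable (𝓜 : X.IdealSheafData) (hM : IsIso (f ∣_ 𝓜.support.compl))

include hM h𝔉 h𝓚 hW in
/-- **A power kills kernel and cokernel of the unit on sections over an affine open.** -/
theorem exists_kill_sec : ∃ n : ℕ, ∀ s ∈ 𝓜.ideal ⟨W, hW⟩ ^ n,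
    (∀ x, (eta f 𝓘 𝓚 hpc hX hZ 𝔉).val.app (op (Vx 𝓘 W)) x = 0 → c₀ 𝓘 hX W s • x = 0) ∧
      ∀ y : MSec ((pushF (cφ f 𝓘 𝓚 hpc) hZ hX).obj ((pullF (cφ f 𝓘 𝓚 hpc) hZ hX).obj 𝔉)) (Vx 𝓘 W),
        ∃ x, (eta f 𝓘 𝓚 hpc hX hZ 𝔉).val.app (op (Vx 𝓘 W)) x = c₀ 𝓘 hX W s • y := by
  obtain ⟨n, hn⟩ := exists_kill f 𝓘 hX 𝔉 h𝔉 hW 𝓜 hM
  refine ⟨n, fun s hs => ⟨fun x hx => (hn s hs).1 x ?_, fun y => ?_⟩⟩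
  · refine red_injective f 𝓘 𝓚 h𝓚 hpc hX hZ 𝔉 h𝔉 hW _ fun U k => ?_
    refine (red_psiU f 𝓘 𝓚 h𝓚 hpc hX hZ 𝔉 h𝔉 hW x U k).trans ?_
    refine (congrArg (fun e => resL f 𝓘 𝓚 hpc hX hZ 𝔉 U k (zLev f 𝓘 𝓚 hpc hX hZ 𝔉 e k)) hx).trans ?_
    refine (congrArg (resL f 𝓘 𝓚 hpc hX hZ 𝔉 U k) ?_).trans (map_zero _)
    exact (congrArg (fun e => FCohLib.rp hZ (Lsys f 𝓘 𝓚 hpc hX 𝔉).F (Lsys f 𝓘 𝓚 hpc hX 𝔉).toPush k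
      (Vz' f 𝓘 𝓚 hpc (W := W)) e) (map_zero ((Ehom f 𝓘 𝓚 hpc hX hZ 𝔉).val.app (op (Vz' f 𝓘 𝓚 hpc (W := W)))).hom)).trans
      (map_zero ((realProj _ hZ _ _ k).val.app (op (Vz' f 𝓘 𝓚 hpc (W := W)))).hom)
  · obtain ⟨h, hh⟩ := exists_lift f 𝓘 𝓚 h𝓚 hpc hX hZ 𝔉 h𝔉 hW (isCompat_zLev f 𝓘 𝓚 hpc hX hZ 𝔉 y)
    obtain ⟨x, hx⟩ := (hn s hs).2 h
    refine ⟨x, eq_of_resL f 𝓘 𝓚 hpc hX hZ 𝔉 h𝔉 hW _ _ fun U k => ?_⟩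
    refine (red_psiU f 𝓘 𝓚 h𝓚 hpc hX hZ 𝔉 h𝔉 hW x U k).symm.trans ?_
    refine (congrArg (red f 𝓘 𝓚 h𝓚 hpc hX hZ 𝔉 h𝔉 hW U k) hx).trans ?_
    refine Eq.trans ?_ (zLev_smul f 𝓘 𝓚 hpc hX hZ 𝔉 _ y U k).symm
    obtain ⟨-, h2, h3, -, -, -⟩ := Psi_spec f 𝓘 𝓚 h𝓚 hpc hX hZ 𝔉 h𝔉 hW U k
    have e : (Zc f 𝓘 hX hW).presheaf.map (homOfLE (le_top : Uc f 𝓘 hX hW U.1 ≤ ⊤)).op
        (alphaR f 𝓘 hX hW ⊤ (c₀ 𝓘 hX W s)) = alphaR f 𝓘 hX hW (Uc f 𝓘 hX hW U.1) (c₀ 𝓘 hX W s) :=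
      congr($(Scheme.Hom.appLE_map (pullback.snd f (jS 𝓘 hX hW)) (le_top : (⊤ : (Zc f 𝓘 hX hW).Opens) ≤ _)
        (homOfLE (le_top : Uc f 𝓘 hX hW U.1 ≤ ⊤)).op) ((Scheme.ΓSpecIso (R₀ 𝓘 hX W)).inv (c₀ 𝓘 hX W s)))
    refine (congrArg (Psi f 𝓘 𝓚 h𝓚 hpc hX hZ 𝔉 h𝔉 hW U k)
      (Scheme.Modules.map_smul _ (homOfLE le_top) _ h)).trans ((h3 _ _).trans ?_)
    exact congrArg₂ (· • ·) ((congrArg (sig f 𝓘 𝓚 h𝓚 hpc hX hZ 𝔉 h𝔉 hW U k) e).trans (h2 _)) (hh U k)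

end FKillLib

end
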